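import Mathlib
import Cfsg.Agent.Lib.Helper10.SWDefs

set_option autoImplicit false

/-! Piece FIN of S3685 (for helper10): from `StructS4 H` to `H ≅ S₄` or `H ≅ S₄ × Z₂`. -/

namespace Cfsg.Agent.Lib.Helper93.SWFIN

open Pointwise Cfsg.Agent.Lib.Helper10.SWDefs

universe u

theorem main : Cfsg.Agent.Lib.Helper10.SWDefs.StFIN.{u} := by
  intro hISO G _ _ H hS
  obtain ⟨X, Q₀, W, hXH, hQH, hinf, hsup, hcomm, hQcard, hXcard, hWX, hWcard, hnrm, hcent⟩ := hS
  have hX4 : Nonempty (↥X ≃* Equiv.Perm (Fin 4)) := by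
    apply hISO ↥X (W.subgroupOf X) hXcard
    · refine ⟨fun n hn g => ?_⟩
      rw [Subgroup.mem_subgroupOf] at hn ⊢
      have h1 := hnrm (g : G) g.2
      have h2 : (g : G) * (n : G) * (g : G)⁻¹ ∈ MulAut.conj (g : G) • W := conj_mem_conj_smul hn
      rw [h1] at h2
      simpa using h2
    · rw [Nat.card_congr (Subgroup.subgroupOfEquivOfLe hWX).toEquiv, hWcard]
    · intro x hx
      rw [Subgroup.mem_subgroupOf]
      apply hcent (x : G) x.2
      intro w hw
      have h1 := hx ⟨w, hWX hw⟩ (by rw [Subgroup.mem_subgroupOf]; exact hw)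
      exact congrArg Subtype.val h1
  obtain ⟨φ⟩ := hX4
  have hQpos : 0 < Nat.card Q₀ := Nat.card_pos
  have hQ12 : Nat.card Q₀ = 1 ∨ Nat.card Q₀ = 2 := by omega
  rcases hQ12 with h1 | h2
  · left
    have hQbot : Q₀ = ⊥ := Subgroup.card_eq_one.1 h1
    have hXH' : X = H := by rw [← hsup, hQbot, sup_bot_eq]
    exact ⟨(MulEquiv.subgroupCongr hXH'.symm).trans φ⟩
  · right
    have hc : ∀ (a : ↥X) (b : ↥Q₀), Commute (X.subtype a) (Q₀.subtype b) :=
      fun a b => hcomm a a.2 b b.2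
    have hf_inj : Function.Injective (MonoidHom.noncommCoprod X.subtype Q₀.subtype hc) := by
      rw [injective_iff_map_eq_one]
      rintro ⟨a, b⟩ hab
      have h1 : (a : G) * (b : G) = 1 := hab
      have h2 : (a : G) = (b : G)⁻¹ := eq_inv_of_mul_eq_one_left h1
      have h3 : (a : G) ∈ X ⊓ Q₀ := Subgroup.mem_inf.2 ⟨a.2, by rw [h2]; exact Q₀.inv_mem b.2⟩
      rw [hinf, Subgroup.mem_bot] at h3
      have h4 : (b : G) = 1 := by rw [h3, one_mul] at h1; exact h1
      ext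
      · exact h3
      · exact h4
    have hf_range : (MonoidHom.noncommCoprod X.subtype Q₀.subtype hc).range = H := by
      rw [MonoidHom.noncommCoprod_range, Subgroup.range_subtype, Subgroup.range_subtype, hsup]
    have e1 : ↥X × ↥Q₀ ≃* ↥H :=
      (MonoidHom.ofInjective hf_inj).trans (MulEquiv.subgroupCongr hf_range)
    have : Fact (Nat.Prime 2) := ⟨Nat.prime_two⟩
    have hc2 : Nat.card (Multiplicative (ZMod 2)) = 2 := by
      rw [Nat.card_eq_fintype_card]; rfl
    have ψ : ↥Q₀ ≃* Multiplicative (ZMod 2) := mulEquivOfPrimeCardEq h2 hc2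
    exact ⟨e1.symm.trans (MulEquiv.prodCongr φ ψ)⟩

end Cfsg.Agent.Lib.Helper93.SWFIN
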