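import Mathlib
import Cfsg.Agent.Lib.Helper10.SWDefs

set_option autoImplicit false

/-! Piece WA of S3685 (for helper10): basic properties of a minimal bad walk. -/

namespace Cfsg.Agent.Lib.Helper93.SWWA

open Pointwise Cfsg.Agent.Lib.Helper10.SWDefs

universe u

theorem main : Cfsg.Agent.Lib.Helper10.SWDefs.StWA.{u} := by
  intro G _ _ H hB hZ x n hMB
  obtain ⟨⟨hpt, hadj⟩, hbad, hmin⟩ := hMB
  have notbad : ∀ (y : ℕ → Subgroup G) (m : ℕ), m < n → IsWalk H y m →
      Zs (y 0) ≤ Qs (y m) := by
    intro y m hm hy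
    by_contra h
    exact hmin m hm ⟨y, hy, h⟩
  have hn1 : 1 ≤ n := by
    by_contra h
    have h0 : n = 0 := by omega
    subst h0
    exact hbad (hZ.z_le _ (hpt 0 le_rfl))
  have revwalk : ∀ i, i ≤ n → ∀ m, m ≤ i → IsWalk H (fun k => x (i - k)) m := by
    intro i hi m hm
    refine ⟨fun k hk => hpt _ (by omega), fun k hk => ?_⟩
    have h1 := hadj (i - (k + 1)) (by omega)
    have e : i - (k + 1) + 1 = i - k := by omega
    rw [e] at h1
    exact hB.adj_symm _ _ (hpt _ (by omega)) (hpt _ (by omega)) h1
  have A : ∀ i j, i ≤ n → j ≤ n → i < j + n → j < i + n → Zs (x i) ≤ Qs (x j) := by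
    intro i j hi hj hij hji
    rcases le_or_gt i j with h | h
    · have h1 : Zs (x (i + 0)) ≤ Qs (x (i + (j - i))) :=
        notbad (fun k => x (i + k)) (j - i) (by omega)
          ⟨fun k hk => hpt _ (by omega), fun k hk => hadj (i + k) (by omega)⟩
      have e : i + (j - i) = j := by omega
      rw [e, Nat.add_zero] at h1
      exact h1
    · have h1 : Zs (x (i - 0)) ≤ Qs (x (i - (i - j))) :=
        notbad (fun k => x (i - k)) (i - j) (by omega) (revwalk i hi (i - j) (by omega))
      have e : i - (i - j) = j := by omega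
      rw [e, Nat.sub_zero] at h1
      exact h1
  have hadjn : Adj (x (n - 1)) (x n) := by
    have h1 := hadj (n - 1) (by omega)
    rwa [Nat.sub_add_cancel hn1] at h1
  have hline_last : IsLine (x (n - 1)) (x (n - 1) ⊓ x n) :=
    hB.adj_line _ _ (hpt _ (by omega)) (hpt _ le_rfl) hadjn
  have hline_last' : IsLine (x n) (x (n - 1) ⊓ x n) := by
    have h1 := hB.adj_line _ _ (hpt _ le_rfl) (hpt _ (by omega))
      (hB.adj_symm _ _ (hpt _ (by omega)) (hpt _ le_rfl) hadjn)
    rwa [inf_comm] at h1
  have hadj0 : Adj (x 0) (x 1) := hadj 0 (by omega)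
  have hline0 : IsLine (x 0) (x 0 ⊓ x 1) :=
    hB.adj_line _ _ (hpt _ (by omega)) (hpt _ hn1) hadj0
  have hline0' : IsLine (x 1) (x 0 ⊓ x 1) := by
    have h1 := hB.adj_line _ _ (hpt _ hn1) (hpt _ (by omega))
      (hB.adj_symm _ _ (hpt _ (by omega)) (hpt _ hn1) hadj0)
    rwa [inf_comm] at h1
  have h0last : Zs (x 0) ≤ x (n - 1) ⊓ x n := fun u hu =>
    Qs_le_line hline_last (A 0 (n - 1) (by omega) (by omega) (by omega) (by omega) hu)
  have hn0 : Zs (x n) ≤ x 0 ⊓ x 1 := fun z hz =>
    Qs_le_line hline0' (A n 1 le_rfl hn1 (by omega) (by omega) hz)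
  refine ⟨A, ⟨revwalk n le_rfl n le_rfl, ?_, hmin⟩, ?_, ?_, ?_⟩
  · show ¬ Zs (x (n - 0)) ≤ Qs (x (n - n))
    rw [Nat.sub_zero, Nat.sub_self]
    intro hle
    apply hbad
    intro u hu
    apply hZ.cz (x n) (hpt n le_rfl) u (h0last hu).2
    intro z hz
    exact (hZ.z_cent (x 0) (hpt 0 (by omega)) u hu z (hle hz)).symm
  · intro i hi heq
    have hPi : IsPt H (x i) := hpt i (by omega)
    have hPi2 : IsPt H (x (i + 2)) := hpt (i + 2) (by omega)
    have hl : IsLine (x i) (x i ⊓ x (i + 1)) :=
      hB.adj_line _ _ hPi (hpt _ (by omega)) (hadj i (by omega))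
    by_cases hx : x i = x (i + 2)
    · have hw : IsWalk H (fun k => if k ≤ i then x k else x (k + 2)) (n - 2) := by
        refine ⟨fun k hk => ?_, fun k hk => ?_⟩
        · show IsPt H (if k ≤ i then x k else x (k + 2))
          split_ifs
          · exact hpt _ (by omega)
          · exact hpt _ (by omega)
        · show Adj (if k ≤ i then x k else x (k + 2))
            (if k + 1 ≤ i then x (k + 1) else x (k + 1 + 2))
          by_cases h1 : k + 1 ≤ i
          · rw [if_pos (by omega), if_pos h1]; exact hadj k (by omega)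
          · by_cases h2 : k ≤ i
            · have hk' : k = i := by omega
              rw [if_pos h2, if_neg h1, hk', hx]
              exact hadj (i + 2) (by omega)
            · rw [if_neg h2, if_neg h1]
              exact hadj (k + 2) (by omega)
      have h1 := notbad _ (n - 2) (by omega) hw
      apply hbad
      have e0 : (if 0 ≤ i then x 0 else x (0 + 2)) = x 0 := by simp
      have en : (if n - 2 ≤ i then x (n - 2) else x (n - 2 + 2)) = x n := by
        by_cases h2 : n - 2 ≤ i
        · have h3 : n - 2 = i := by omega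
          have h4 : i + 2 = n := by omega
          rw [if_pos h2, h3, hx, h4]
        · rw [if_neg h2]; congr 1; omega
      rw [e0, en] at h1
      exact h1
    · have hS : x i ⊓ x (i + 1) ≤ x (i + 2) := by
        rw [heq]; exact inf_le_right
      have hadj2 : Adj (x i) (x (i + 2)) := (hB.line_adj _ _ _ hPi hPi2 hx hl hS).2
      have hw : IsWalk H (fun k => if k ≤ i then x k else x (k + 1)) (n - 1) := by
        refine ⟨fun k hk => ?_, fun k hk => ?_⟩
        · show IsPt H (if k ≤ i then x k else x (k + 1))
          split_ifs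
          · exact hpt _ (by omega)
          · exact hpt _ (by omega)
        · show Adj (if k ≤ i then x k else x (k + 1))
            (if k + 1 ≤ i then x (k + 1) else x (k + 1 + 1))
          by_cases h1 : k + 1 ≤ i
          · rw [if_pos (by omega), if_pos h1]; exact hadj k (by omega)
          · by_cases h2 : k ≤ i
            · have hk' : k = i := by omega
              rw [if_pos h2, if_neg h1, hk']
              exact hadj2
            · rw [if_neg h2, if_neg h1]
              exact hadj (k + 1) (by omega)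
      have h1 := notbad _ (n - 1) (by omega) hw
      apply hbad
      have e0 : (if 0 ≤ i then x 0 else x (0 + 1)) = x 0 := by simp
      have en : (if n - 1 ≤ i then x (n - 1) else x (n - 1 + 1)) = x n := by
        rw [if_neg (by omega)]; congr 1; omega
      rw [e0, en] at h1
      exact h1
  · intro hn3 heq
    have hw : IsWalk H (fun k => if k ≤ 1 then x k else x n) 2 := by
      refine ⟨fun k hk => ?_, fun k hk => ?_⟩
      · show IsPt H (if k ≤ 1 then x k else x n)
        split_ifs
        · exact hpt _ (by omega)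
        · exact hpt _ le_rfl
      · show Adj (if k ≤ 1 then x k else x n) (if k + 1 ≤ 1 then x (k + 1) else x n)
        by_cases h1 : k + 1 ≤ 1
        · rw [if_pos (by omega), if_pos h1]; exact hadj k (by omega)
        · have hk' : k = 1 := by omega
          rw [if_pos (by omega), if_neg h1, hk', heq]
          exact hadjn
    have h1 := notbad _ 2 (by omega) hw
    apply hbad
    have e0 : (if 0 ≤ 1 then x 0 else x n) = x 0 := by simp
    have en : (if 2 ≤ 1 then x 2 else x n) = x n := by simp
    rw [e0, en] at h1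
    exact h1
  · intro _ u hu z hz
    have hu2 : u * u = 1 := hZ.z_sq _ (hpt 0 (by omega)) u hu
    have hz2 : z * z = 1 := hZ.z_sq _ (hpt n le_rfl) z hz
    have huinv : u⁻¹ = u := inv_eq_of_mul_eq_one_left hu2
    have hzinv : z⁻¹ = z := inv_eq_of_mul_eq_one_left hz2
    constructor
    · have h1 := hZ.z_line (x 0) _ (hpt 0 (by omega)) hline0 u hu z (hn0 hz)
      have e : u * z * u⁻¹ * z⁻¹ = u * (z * u * z⁻¹) := by rw [huinv]; group
      rw [e]; exact h1
    · have h1 := hZ.z_line (x n) _ (hpt n le_rfl) hline_last' z hz u (h0last hu)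
      have h2 : (z * (u * z * u⁻¹)) * (z * (u * z * u⁻¹)) = 1 := h1.2.1
      have e : u * z * u⁻¹ * z⁻¹ = z * (u * z * u⁻¹) := by
        have hw2 : (u * z * u⁻¹) * (u * z * u⁻¹) = 1 := by
          calc (u * z * u⁻¹) * (u * z * u⁻¹) = u * (z * z) * u⁻¹ := by group
            _ = 1 := by rw [hz2]; group
        rw [hzinv]
        calc u * z * u⁻¹ * z
            = (z * z) * ((u * z * u⁻¹) * z) * ((u * z * u⁻¹) * (u * z * u⁻¹)) := by
              rw [hz2, hw2]; group
          _ = z * ((z * (u * z * u⁻¹)) * (z * (u * z * u⁻¹))) * (u * z * u⁻¹) := by group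
          _ = z * (u * z * u⁻¹) := by rw [h2]; group
      rw [e]; exact h1

end Cfsg.Agent.Lib.Helper93.SWWA
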