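import Mathlib

/-!
# A `p'`-subgroup of `GL₂(p)` cannot have "special" elements at every vector (helper93)

Piece S3055/K2 for helper10.  `gl2_special_of_klein` takes Klein's class equation lemma (piece K1,
verbatim signature) as a hypothesis, so that this file needs Mathlib only.
-/

set_option autoImplicit false

namespace Cfsg.Agent.Lib.Helper93.Gl2Special

open Matrix

section Field

variable {F : Type*} [Field F]

/-- A `2 × 2` matrix is scalar. -/
def IsSc (M : Matrix (Fin 2) (Fin 2) F) : Prop := M 0 1 = 0 ∧ M 1 0 = 0 ∧ M 0 0 = M 1 1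

omit [Field F] in
theorem ext2 (A B : Matrix (Fin 2) (Fin 2) F) (h00 : A 0 0 = B 0 0) (h01 : A 0 1 = B 0 1)
    (h10 : A 1 0 = B 1 0) (h11 : A 1 1 = B 1 1) : A = B := by
  ext i j
  fin_cases i <;> fin_cases j
  · exact h00
  · exact h01
  · exact h10
  · exact h11

theorem isSc_comm (M K : Matrix (Fin 2) (Fin 2) F) (hM : IsSc M) : M * K = K * M := by
  obtain ⟨h01, h10, h00⟩ := hM
  apply ext2 <;> simp [Matrix.mul_apply, Fin.sum_univ_two, h01, h10, h00] <;> ring

/-- the centralizer of a non-scalar matrix consists of the polynomials in it -/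
theorem repr_of_commute (M K : Matrix (Fin 2) (Fin 2) F) (hM : ¬ IsSc M) (h : K * M = M * K) :
    ∃ α β : F, K = α • (1 : Matrix (Fin 2) (Fin 2) F) + β • M := by
  have e00 := congrFun (congrFun h 0) 0
  have e01 := congrFun (congrFun h 0) 1
  have e10 := congrFun (congrFun h 1) 0
  simp only [Matrix.mul_apply, Fin.sum_univ_two] at e00 e01 e10
  have key : ∃ α β : F, K 0 0 = α + β * M 0 0 ∧ K 0 1 = β * M 0 1 ∧ K 1 0 = β * M 1 0 ∧
      K 1 1 = α + β * M 1 1 := by
    by_cases hb : M 0 1 = 0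
    · by_cases hc : M 1 0 = 0
      · have had : M 0 0 - M 1 1 ≠ 0 := sub_ne_zero.mpr (fun h' => hM ⟨hb, hc, h'⟩)
        have hy : K 0 1 = 0 := by
          have h1 : K 0 1 * (M 0 0 - M 1 1) = 0 := by
            linear_combination (-1 : F) * e01 + (K 0 0 - K 1 1) * hb
          exact (mul_eq_zero.mp h1).resolve_right had
        have hz : K 1 0 = 0 := by
          have h1 : K 1 0 * (M 0 0 - M 1 1) = 0 := by
            linear_combination e10 + (K 0 0 - K 1 1) * hc
          exact (mul_eq_zero.mp h1).resolve_right had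
        have hβ : (K 0 0 - K 1 1) / (M 0 0 - M 1 1) * (M 0 0 - M 1 1) = K 0 0 - K 1 1 :=
          div_mul_cancel₀ _ had
        refine ⟨K 0 0 - (K 0 0 - K 1 1) / (M 0 0 - M 1 1) * M 0 0,
          (K 0 0 - K 1 1) / (M 0 0 - M 1 1), by ring, by rw [hy, hb]; ring, by rw [hz, hc]; ring,
          ?_⟩
        linear_combination hβ
      · have hβ : K 1 0 / M 1 0 * M 1 0 = K 1 0 := div_mul_cancel₀ _ hc
        refine ⟨K 0 0 - K 1 0 / M 1 0 * M 0 0, K 1 0 / M 1 0, by ring, ?_, hβ.symm, ?_⟩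
        · apply mul_left_cancel₀ hc
          linear_combination e00 - M 0 1 * hβ
        · apply mul_left_cancel₀ hc
          linear_combination e10 + (M 0 0 - M 1 1) * hβ
    · have hβ : K 0 1 / M 0 1 * M 0 1 = K 0 1 := div_mul_cancel₀ _ hb
      have f1 : M 0 1 * K 1 0 = K 0 1 * M 1 0 := by linear_combination (-1 : F) * e00
      have f2 : M 0 1 * K 1 1 = K 0 0 * M 0 1 + K 0 1 * M 1 1 - M 0 0 * K 0 1 := by
        linear_combination (-1 : F) * e01
      refine ⟨K 0 0 - K 0 1 / M 0 1 * M 0 0, K 0 1 / M 0 1, by ring, hβ.symm, ?_, ?_⟩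
      · apply mul_left_cancel₀ hb
        linear_combination f1 - M 1 0 * hβ
      · apply mul_left_cancel₀ hb
        linear_combination f2 - (M 1 1 - M 0 0) * hβ
  obtain ⟨α, β, k00, k01, k10, k11⟩ := key
  refine ⟨α, β, ?_⟩
  apply ext2
  · simp [k00]
  · simp [k01]
  · simp [k10]
  · simp [k11]

theorem commute_of_repr (M : Matrix (Fin 2) (Fin 2) F) (α β α' β' : F) :
    (α • (1 : Matrix (Fin 2) (Fin 2) F) + β • M) * (α' • 1 + β' • M) =
      (α' • 1 + β' • M) * (α • 1 + β • M) := by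
  have h1 : Commute (α • (1 : Matrix (Fin 2) (Fin 2) F)) (α' • (1 : Matrix (Fin 2) (Fin 2) F)) :=
    ((Commute.one_left (1 : Matrix (Fin 2) (Fin 2) F)).smul_left α).smul_right α'
  have h2 : Commute (α • (1 : Matrix (Fin 2) (Fin 2) F)) (β' • M) :=
    ((Commute.one_left M).smul_left α).smul_right β'
  have h3 : Commute (β • M) (α' • (1 : Matrix (Fin 2) (Fin 2) F)) :=
    ((Commute.one_right M).smul_left β).smul_right α'
  have h4 : Commute (β • M) (β' • M) := ((Commute.refl M).smul_left β).smul_right β'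
  exact ((h1.add_right h2).add_left (h3.add_right h4)).eq

/-- two matrices commuting with a non-scalar matrix commute -/
theorem comm_of_comm (M A B : Matrix (Fin 2) (Fin 2) F) (hM : ¬ IsSc M) (hA : A * M = M * A)
    (hB : B * M = M * B) : A * B = B * A := by
  obtain ⟨α, β, rfl⟩ := repr_of_commute M A hM hA
  obtain ⟨α', β', rfl⟩ := repr_of_commute M B hM hB
  exact commute_of_repr M α β α' β'

/-- powers of `τ + N` with `N² = 0` -/
theorem pow_nilp (M N : Matrix (Fin 2) (Fin 2) F) (τ : F)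
    (hM : M = τ • (1 : Matrix (Fin 2) (Fin 2) F) + N) (hNN : N * N = 0) (k : ℕ) :
    M ^ (k + 1) = τ ^ (k + 1) • (1 : Matrix (Fin 2) (Fin 2) F) + (((k : F) + 1) * τ ^ k) • N := by
  induction k with
  | zero => simp [hM]
  | succ k ih =>
    rw [pow_succ, ih]
    conv_lhs => rw [hM]
    simp only [add_mul, mul_add, smul_mul_assoc, mul_smul_comm, one_mul, mul_one, hNN, smul_zero,
      add_zero]
    push_cast
    module

/-- a non-scalar invertible matrix of order prime to the characteristic has non-zero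
discriminant -/
theorem disc_ne_zero (h2 : (2 : F) ≠ 0) (M : Matrix (Fin 2) (Fin 2) F) (hM : ¬ IsSc M)
    (hdet : M 0 0 * M 1 1 - M 0 1 * M 1 0 ≠ 0) (n : ℕ) (hn : (n : F) ≠ 0) (hpow : M ^ n = 1) :
    (M 0 0 - M 1 1) ^ 2 + 4 * (M 0 1 * M 1 0) ≠ 0 := by
  intro hdisc
  obtain ⟨τ, hτ⟩ : ∃ τ : F, 2 * τ = M 0 0 + M 1 1 := ⟨(M 0 0 + M 1 1) / 2, by field_simp⟩
  obtain ⟨N, hN⟩ : ∃ N : Matrix (Fin 2) (Fin 2) F, N = M - τ • (1 : Matrix (Fin 2) (Fin 2) F) :=
    ⟨_, rfl⟩
  have hMN : M = τ • (1 : Matrix (Fin 2) (Fin 2) F) + N := by rw [hN]; abel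
  have n00 : N 0 0 = M 0 0 - τ := by rw [hN]; simp
  have n01 : N 0 1 = M 0 1 := by rw [hN]; simp
  have n10 : N 1 0 = M 1 0 := by rw [hN]; simp
  have n11 : N 1 1 = M 1 1 - τ := by rw [hN]; simp
  have h4 : (4 : F) ≠ 0 := by
    have : (4 : F) = 2 * 2 := by norm_num
    rw [this]
    exact mul_ne_zero h2 h2
  have hNN : N * N = 0 := by
    apply ext2
    · simp only [Matrix.mul_apply, Fin.sum_univ_two, n00, n01, n10, Matrix.zero_apply]
      apply mul_left_cancel₀ h4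
      linear_combination hdisc - (3 * M 0 0 - M 1 1 - 2 * τ) * hτ
    · simp only [Matrix.mul_apply, Fin.sum_univ_two, n00, n01, n11, Matrix.zero_apply]
      linear_combination (-M 0 1) * hτ
    · simp only [Matrix.mul_apply, Fin.sum_univ_two, n00, n10, n11, Matrix.zero_apply]
      linear_combination (-M 1 0) * hτ
    · simp only [Matrix.mul_apply, Fin.sum_univ_two, n01, n10, n11, Matrix.zero_apply]
      apply mul_left_cancel₀ h4
      linear_combination hdisc - (3 * M 1 1 - M 0 0 - 2 * τ) * hτ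
  obtain ⟨k, rfl⟩ : ∃ k, n = k + 1 := by
    rcases n with _ | k
    · simp at hn
    · exact ⟨k, rfl⟩
  have hform := pow_nilp M N τ hMN hNN k
  rw [hpow] at hform
  have e01 := congrFun (congrFun hform 0) 1
  have e10 := congrFun (congrFun hform 1) 0
  have e00 := congrFun (congrFun hform 0) 0
  have e11 := congrFun (congrFun hform 1) 1
  simp only [Matrix.add_apply, Matrix.smul_apply, smul_eq_mul, Matrix.one_apply_eq,
    Matrix.one_apply_ne (show (0 : Fin 2) ≠ 1 by decide),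
    Matrix.one_apply_ne (show (1 : Fin 2) ≠ 0 by decide), mul_zero, zero_add, mul_one,
    n00, n01, n10, n11] at e01 e10 e00 e11
  have hk1 : ((k : F) + 1) ≠ 0 := by
    have : ((k + 1 : ℕ) : F) = (k : F) + 1 := by push_cast; ring
    rw [← this]
    exact hn
  have hγ : ((k : F) + 1) * τ ^ k = 0 := by
    by_contra hγ
    apply hM
    refine ⟨?_, ?_, ?_⟩
    · exact (mul_eq_zero.mp e01.symm).resolve_left hγ
    · exact (mul_eq_zero.mp e10.symm).resolve_left hγ
    · have h5 : ((k : F) + 1) * τ ^ k * (M 0 0 - M 1 1) = 0 := by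
        linear_combination e11 - e00
      exact sub_eq_zero.mp ((mul_eq_zero.mp h5).resolve_left hγ)
  have hτk : τ ^ k = 0 := (mul_eq_zero.mp hγ).resolve_left hk1
  have hτ0 : τ = 0 := by
    rcases k with _ | k
    · simp at hτk
    · exact (pow_eq_zero_iff (Nat.succ_ne_zero k)).mp hτk
  apply hdet
  apply mul_left_cancel₀ h4
  rw [hτ0] at hτ
  linear_combination (-1 : F) * hdisc - (M 0 0 + M 1 1) * hτ

/-- conjugates of a non-scalar matrix inside its own centralizer -/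
theorem conj_eq (h2 : (2 : F) ≠ 0) (M A A' : Matrix (Fin 2) (Fin 2) F) (hM : ¬ IsSc M)
    (hdisc : (M 0 0 - M 1 1) ^ 2 + 4 * (M 0 1 * M 1 0) ≠ 0)
    (hAA' : A * A' = 1) (hA'A : A' * A = 1)
    (hc : (A * M * A') * M = M * (A * M * A')) (hne : A * M ≠ M * A) :
    A * M * A' = (M 0 0 + M 1 1) • (1 : Matrix (Fin 2) (Fin 2) F) - M := by
  obtain ⟨α, β, hαβ⟩ := repr_of_commute M (A * M * A') hM hc
  have htr : Matrix.trace (A * M * A') = Matrix.trace M := by
    rw [Matrix.trace_mul_cycle, hA'A, one_mul]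
  have hdet : Matrix.det (A * M * A') = Matrix.det M := by
    rw [Matrix.det_mul, Matrix.det_mul, mul_right_comm, ← Matrix.det_mul, hAA', Matrix.det_one,
      one_mul]
  rw [hαβ, Matrix.trace_fin_two, Matrix.trace_fin_two] at htr
  rw [hαβ, Matrix.det_fin_two, Matrix.det_fin_two] at hdet
  simp only [Matrix.add_apply, Matrix.smul_apply, smul_eq_mul, Matrix.one_apply_eq,
    Matrix.one_apply_ne (show (0 : Fin 2) ≠ 1 by decide),
    Matrix.one_apply_ne (show (1 : Fin 2) ≠ 0 by decide), mul_one, mul_zero, zero_add]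
    at htr hdet
  have hβ : (1 - β) * (1 + β) = 0 := by
    have h1 : (1 - β) * (1 + β) * ((M 0 0 - M 1 1) ^ 2 + 4 * (M 0 1 * M 1 0)) = 0 := by
      linear_combination 4 * hdet - (2 * α + (M 0 0 + M 1 1) * (1 + β)) * htr
    exact (mul_eq_zero.mp h1).resolve_right hdisc
  rcases mul_eq_zero.mp hβ with h | h
  · have hβ1 : β = 1 := by linear_combination (-1 : F) * h
    have hα : α = 0 := by
      apply mul_left_cancel₀ h2
      rw [hβ1] at htr
      linear_combination htr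
    exfalso
    apply hne
    have hconj : A * M * A' = M := by
      rw [hαβ, hα, hβ1]
      simp
    calc A * M = A * M * (A' * A) := by rw [hA'A, mul_one]
      _ = (A * M * A') * A := by simp only [mul_assoc]
      _ = M * A := by rw [hconj]
  · have hβ1 : β = -1 := by linear_combination h
    have hα : α = M 0 0 + M 1 1 := by
      apply mul_left_cancel₀ h2
      rw [hβ1] at htr
      linear_combination htr
    rw [hαβ, hα, hβ1]
    simp [sub_eq_add_neg]

/-- eigenvectors of powers -/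
theorem mulVec_pow (M : Matrix (Fin 2) (Fin 2) F) (v : Fin 2 → F) (τ : F)
    (h : M.mulVec v = τ • v) (k : ℕ) : (M ^ k).mulVec v = τ ^ k • v := by
  induction k with
  | zero => simp
  | succ k ih =>
    rw [pow_succ, ← Matrix.mulVec_mulVec, h, Matrix.mulVec_smul, ih, smul_smul, pow_succ,
      mul_comm]

/-- scalar matrices act as scalars -/
theorem isSc_mulVec (C : Matrix (Fin 2) (Fin 2) F) (hC : IsSc C) (v : Fin 2 → F) :
    C.mulVec v = C 0 0 • v := by
  obtain ⟨h01, h10, h00⟩ := hC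
  funext i
  fin_cases i
  · simp [Matrix.mulVec, dotProduct, Fin.sum_univ_two, h01]
  · simp [Matrix.mulVec, dotProduct, Fin.sum_univ_two, h10, h00]

/-- if a power of a "special" matrix is scalar then `u ^ (3 k) = 1` -/
theorem pow_three_of_isSc (M : Matrix (Fin 2) (Fin 2) F) (v : Fin 2 → F) (hv : v ≠ 0)
    (τ u : F) (hτu : τ * u = 1) (hMv : M.mulVec v = τ • v) (hdet : M.det = u) (k : ℕ)
    (hsc : IsSc (M ^ k)) : u ^ (3 * k) = 1 := by
  have h1 := mulVec_pow M v τ hMv k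
  rw [isSc_mulVec _ hsc] at h1
  have hσ : (M ^ k) 0 0 = τ ^ k := by
    by_contra hne
    apply hv
    have h2 : ((M ^ k) 0 0 - τ ^ k) • v = 0 := by rw [sub_smul, h1, sub_self]
    exact (smul_eq_zero.mp h2).resolve_left (sub_ne_zero.mpr hne)
  have hd : (M ^ k).det = u ^ k := by rw [Matrix.det_pow, hdet]
  rw [Matrix.det_fin_two, hsc.1, hsc.2.1, ← hsc.2.2, hσ] at hd
  calc u ^ (3 * k) = u ^ k * (u ^ k) ^ 2 := by ring
    _ = (τ ^ k * τ ^ k - 0 * 0) * (u ^ k) ^ 2 := by rw [hd]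
    _ = ((τ * u) ^ k) ^ 2 := by ring
    _ = 1 := by rw [hτu]; simp

/-- the quadratic whose roots `l` are the eigenvectors `(1, l)` -/
def quad (M : Matrix (Fin 2) (Fin 2) F) (l : F) : F :=
  M 0 1 * l ^ 2 + (M 0 0 - M 1 1) * l - M 1 0

theorem quad_eq_zero_of_eigen (M : Matrix (Fin 2) (Fin 2) F) (l μ : F)
    (h : M.mulVec ![1, l] = μ • ![1, l]) : quad M l = 0 := by
  have e0 := congrFun h 0
  have e1 := congrFun h 1
  simp only [Matrix.mulVec, dotProduct, Fin.sum_univ_two, Matrix.cons_val_zero,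
    Matrix.cons_val_one, Pi.smul_apply, smul_eq_mul, mul_one] at e0 e1
  unfold quad
  linear_combination l * e0 - e1

theorem card_roots_le [Fintype F] [DecidableEq F] (M : Matrix (Fin 2) (Fin 2) F)
    (hM : ¬ IsSc M) : (Finset.univ.filter (fun l : F => quad M l = 0)).card ≤ 2 := by
  by_contra hcon
  rw [not_le, Finset.two_lt_card_iff] at hcon
  obtain ⟨x, y, z, hx, hy, hz, hxy, hxz, hyz⟩ := hcon
  replace hx := (Finset.mem_filter.mp hx).2
  replace hy := (Finset.mem_filter.mp hy).2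
  replace hz := (Finset.mem_filter.mp hz).2
  unfold quad at hx hy hz
  have h1 : M 0 1 * (x + y) + (M 0 0 - M 1 1) = 0 := by
    have : (x - y) * (M 0 1 * (x + y) + (M 0 0 - M 1 1)) = 0 := by linear_combination hx - hy
    exact (mul_eq_zero.mp this).resolve_left (sub_ne_zero.mpr hxy)
  have h2 : M 0 1 * (x + z) + (M 0 0 - M 1 1) = 0 := by
    have : (x - z) * (M 0 1 * (x + z) + (M 0 0 - M 1 1)) = 0 := by linear_combination hx - hz
    exact (mul_eq_zero.mp this).resolve_left (sub_ne_zero.mpr hxz)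
  have hb : M 0 1 = 0 := by
    have : (y - z) * M 0 1 = 0 := by linear_combination h1 - h2
    exact (mul_eq_zero.mp this).resolve_left (sub_ne_zero.mpr hyz)
  have he : M 0 0 = M 1 1 := by linear_combination h1 - (x + y) * hb
  have hc : M 1 0 = 0 := by linear_combination (-1 : F) * hx + x ^ 2 * hb + x * he
  exact hM ⟨hb, hc, he⟩

theorem exists_nonroot [Fintype F] [DecidableEq F] (hF : 6 < Fintype.card F)
    (M₁ M₂ M₃ : Matrix (Fin 2) (Fin 2) F) (h₁ : ¬ IsSc M₁) (h₂ : ¬ IsSc M₂) (h₃ : ¬ IsSc M₃) :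
    ∃ l : F, quad M₁ l ≠ 0 ∧ quad M₂ l ≠ 0 ∧ quad M₃ l ≠ 0 := by
  by_contra hcon
  have hsub : (Finset.univ : Finset F) ⊆ (Finset.univ.filter (fun l : F => quad M₁ l = 0)) ∪
      (Finset.univ.filter (fun l : F => quad M₂ l = 0)) ∪
      (Finset.univ.filter (fun l : F => quad M₃ l = 0)) := by
    intro l _
    simp only [Finset.mem_union, Finset.mem_filter, Finset.mem_univ, true_and]
    by_cases c1 : quad M₁ l = 0
    · exact Or.inl (Or.inl c1)
    by_cases c2 : quad M₂ l = 0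
    · exact Or.inl (Or.inr c2)
    refine Or.inr ?_
    by_contra c3
    exact hcon ⟨l, c1, c2, c3⟩
  have h := Finset.card_le_card hsub
  have h' := (Finset.card_union_le ((Finset.univ.filter (fun l : F => quad M₁ l = 0)) ∪
      (Finset.univ.filter (fun l : F => quad M₂ l = 0)))
      (Finset.univ.filter (fun l : F => quad M₃ l = 0))).trans
    (Nat.add_le_add_right (Finset.card_union_le _ _) _)
  have c1 := card_roots_le M₁ h₁
  have c2 := card_roots_le M₂ h₂
  have c3 := card_roots_le M₃ h₃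
  rw [Finset.card_univ] at h
  omega

/-- the eigenspace of a non-scalar matrix at an eigenvector `(1, l)` is a line -/
theorem eigen_unique (M : Matrix (Fin 2) (Fin 2) F) (hM : ¬ IsSc M) (l τ : F)
    (h : M.mulVec ![1, l] = τ • ![1, l]) (w : Fin 2 → F) (hw : M.mulVec w = τ • w) :
    w = w 0 • ![1, l] := by
  have e0 := congrFun h 0
  have e1 := congrFun h 1
  have f0 := congrFun hw 0
  have f1 := congrFun hw 1
  simp only [Matrix.mulVec, dotProduct, Fin.sum_univ_two, Matrix.cons_val_zero,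
    Matrix.cons_val_one, Pi.smul_apply, smul_eq_mul, mul_one] at e0 e1 f0 f1
  have hd : w 1 - w 0 * l = 0 := by
    by_contra hd
    apply hM
    have hb : M 0 1 = 0 := by
      have : M 0 1 * (w 1 - w 0 * l) = 0 := by linear_combination f0 - w 0 * e0
      exact (mul_eq_zero.mp this).resolve_right hd
    have ha : M 1 1 = τ := by
      have : (M 1 1 - τ) * (w 1 - w 0 * l) = 0 := by linear_combination f1 - w 0 * e1
      exact sub_eq_zero.mp ((mul_eq_zero.mp this).resolve_right hd)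
    have ha0 : M 0 0 = τ := by linear_combination e0 - l * hb
    have hc : M 1 0 = 0 := by linear_combination e1 - l * ha
    exact ⟨hb, hc, ha0.trans ha.symm⟩
  funext i
  fin_cases i
  · simp
  · show w 1 = w 0 * l
    linear_combination hd

end Field

/-- **K2**, with Klein's class equation lemma (K1) as a hypothesis. -/
theorem gl2_special_of_klein
    (K1 : ∀ (H' : Type) [Group H'] [Finite H'] (m : ℕ), 4 ≤ m →
      (∀ h : H', h ∉ Subgroup.center H' → ∀ a b : H', a * h = h * a → b * h = h * b →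
        a * b = b * a) →
      (∀ h : H', h ∉ Subgroup.center H' → ∀ a b : H',
        (a * h * a⁻¹) * h = h * (a * h * a⁻¹) → (b * h * b⁻¹) * h = h * (b * h * b⁻¹) →
        a * h ≠ h * a → b * h ≠ h * b → (a⁻¹ * b) * h = h * (a⁻¹ * b)) →
      ∀ (S : Set H'), (∀ s ∈ S, ∀ g : H', g * s * g⁻¹ ∈ S) →
      (∀ s ∈ S, ∀ k : ℕ, s ^ k ∈ Subgroup.center H' → m ∣ k) →
      ∀ (s₁ s₂ s₃ s₄ : H'), s₁ ∈ S → s₂ ∈ S → s₃ ∈ S → s₄ ∈ S →
      s₁ * s₂ ≠ s₂ * s₁ → s₁ * s₃ ≠ s₃ * s₁ → s₁ * s₄ ≠ s₄ * s₁ →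
      s₂ * s₃ ≠ s₃ * s₂ → s₂ * s₄ ≠ s₄ * s₂ → s₃ * s₄ ≠ s₄ * s₃ → m = 5)
    (p : ℕ) [Fact p.Prime] (hp : 11 ≤ p)
    (H : Subgroup (GL (Fin 2) (ZMod p))) (hH : ∀ h ∈ H, ¬ p ∣ orderOf h)
    (t : (ZMod p)ˣ) (ht : orderOf t = p - 1)
    (hspec : ∀ v : Fin 2 → ZMod p, v ≠ 0 → ∃ h ∈ H,
      (h : Matrix (Fin 2) (Fin 2) (ZMod p)).mulVec v = ((t⁻¹ : (ZMod p)ˣ) : ZMod p) • v ∧
      Matrix.det (h : Matrix (Fin 2) (Fin 2) (ZMod p)) = (t : ZMod p)) : False := by
  classical
  have hpp : p.Prime := Fact.out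
  have : NeZero p := ⟨hpp.ne_zero⟩
  -- the exponent `m`
  obtain ⟨m, hm4, hm5, hmdvd⟩ : ∃ m : ℕ, 4 ≤ m ∧ m ≠ 5 ∧ ∀ k : ℕ, p - 1 ∣ 3 * k → m ∣ k := by
    by_cases h3 : 3 ∣ p - 1
    · obtain ⟨c, hc⟩ := h3
      refine ⟨c, by omega, ?_, ?_⟩
      · rintro rfl
        have h16 : p = 16 := by omega
        rw [h16] at hpp
        exact absurd hpp (by norm_num)
      · intro k hk
        rw [hc] at hk
        exact Nat.dvd_of_mul_dvd_mul_left (by norm_num) hk
    · refine ⟨p - 1, by omega, ?_, ?_⟩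
      · intro h5
        have h6 : p = 6 := by omega
        rw [h6] at hpp
        exact absurd hpp (by norm_num)
      · intro k hk
        have hcop : Nat.Coprime (p - 1) 3 :=
          ((Nat.Prime.coprime_iff_not_dvd Nat.prime_three).mpr h3).symm
        exact hcop.dvd_of_dvd_mul_left hk
  -- scalars
  have h2 : (2 : ZMod p) ≠ 0 := by
    have h : ((2 : ℕ) : ZMod p) ≠ 0 := by
      rw [Ne, ZMod.natCast_eq_zero_iff]
      intro hd
      have := Nat.le_of_dvd (by norm_num) hd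
      omega
    exact_mod_cast h
  obtain ⟨u, hu⟩ : ∃ u : ZMod p, u = (t : ZMod p) := ⟨_, rfl⟩
  obtain ⟨τ₀, hτ₀⟩ : ∃ τ₀ : ZMod p, τ₀ = ((t⁻¹ : (ZMod p)ˣ) : ZMod p) := ⟨_, rfl⟩
  have hτu : τ₀ * u = 1 := by rw [hτ₀, hu]; exact Units.inv_mul t
  have u3 : ∀ k : ℕ, u ^ (3 * k) = 1 → p - 1 ∣ 3 * k := by
    intro k hk
    rw [← ht]
    apply orderOf_dvd_of_pow_eq_one
    apply Units.ext
    rw [Units.val_pow_eq_pow_val, ← hu, hk, Units.val_one]
  -- the matrix of an element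
  obtain ⟨mat, hmat⟩ : ∃ mat : ↥H → Matrix (Fin 2) (Fin 2) (ZMod p), ∀ h : ↥H,
      mat h = ((h : GL (Fin 2) (ZMod p)) : Matrix (Fin 2) (Fin 2) (ZMod p)) := ⟨_, fun _ => rfl⟩
  have mat_mul : ∀ a b : ↥H, mat (a * b) = mat a * mat b := by
    intro a b
    simp [hmat]
  have mat_one : mat 1 = 1 := by simp [hmat]
  have mat_inj : ∀ a b : ↥H, mat a = mat b → a = b := by
    intro a b h
    rw [hmat, hmat] at h
    exact Subtype.ext (Units.ext h)
  have mat_inv_mul : ∀ a : ↥H, mat a⁻¹ * mat a = 1 := by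
    intro a
    rw [← mat_mul, inv_mul_cancel, mat_one]
  have mat_mul_inv : ∀ a : ↥H, mat a * mat a⁻¹ = 1 := by
    intro a
    rw [← mat_mul, mul_inv_cancel, mat_one]
  have mat_pow : ∀ (a : ↥H) (k : ℕ), mat (a ^ k) = mat a ^ k := by
    intro a k
    induction k with
    | zero => simp [mat_one]
    | succ k ih => rw [pow_succ, mat_mul, ih, pow_succ]
  have nonsc : ∀ h : ↥H, h ∉ Subgroup.center ↥H → ¬ IsSc (mat h) := by
    intro h hh hsc
    apply hh
    rw [Subgroup.mem_center_iff]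
    intro g
    apply mat_inj
    rw [mat_mul, mat_mul]
    exact (isSc_comm (mat h) (mat g) hsc).symm
  have detne : ∀ h : ↥H, mat h 0 0 * mat h 1 1 - mat h 0 1 * mat h 1 0 ≠ 0 := by
    intro h
    rw [← Matrix.det_fin_two]
    have h1 := congrArg Matrix.det (mat_mul_inv h)
    rw [Matrix.det_mul, Matrix.det_one] at h1
    exact left_ne_zero_of_mul_eq_one h1
  have disc : ∀ h : ↥H, h ∉ Subgroup.center ↥H →
      (mat h 0 0 - mat h 1 1) ^ 2 + 4 * (mat h 0 1 * mat h 1 0) ≠ 0 := by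
    intro h hh
    refine disc_ne_zero h2 (mat h) (nonsc h hh) (detne h) (orderOf h) ?_ ?_
    · rw [Ne, ZMod.natCast_eq_zero_iff, ← Subgroup.orderOf_coe]
      exact hH _ h.2
    · rw [← mat_pow, pow_orderOf_eq_one, mat_one]
  -- the hypotheses of K1
  have hCA : ∀ h : ↥H, h ∉ Subgroup.center ↥H → ∀ a b : ↥H, a * h = h * a → b * h = h * b →
      a * b = b * a := by
    intro h hh a b ha hb
    apply mat_inj
    rw [mat_mul, mat_mul]
    refine comm_of_comm (mat h) (mat a) (mat b) (nonsc h hh) ?_ ?_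
    · rw [← mat_mul, ← mat_mul, ha]
    · rw [← mat_mul, ← mat_mul, hb]
  have hN2 : ∀ h : ↥H, h ∉ Subgroup.center ↥H → ∀ a b : ↥H,
      (a * h * a⁻¹) * h = h * (a * h * a⁻¹) → (b * h * b⁻¹) * h = h * (b * h * b⁻¹) →
      a * h ≠ h * a → b * h ≠ h * b → (a⁻¹ * b) * h = h * (a⁻¹ * b) := by
    intro h hh a b ha hb hna hnb
    have hA := conj_eq h2 (mat h) (mat a) (mat a⁻¹) (nonsc h hh) (disc h hh) (mat_mul_inv a)
      (mat_inv_mul a) (by have h' := congrArg mat ha; simpa only [mat_mul] using h')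
      (fun hc => hna (mat_inj _ _ (by rw [mat_mul, mat_mul, hc])))
    have hB := conj_eq h2 (mat h) (mat b) (mat b⁻¹) (nonsc h hh) (disc h hh) (mat_mul_inv b)
      (mat_inv_mul b) (by have h' := congrArg mat hb; simpa only [mat_mul] using h')
      (fun hc => hnb (mat_inj _ _ (by rw [mat_mul, mat_mul, hc])))
    have hab : a * h * a⁻¹ = b * h * b⁻¹ := by
      apply mat_inj
      rw [mat_mul, mat_mul, mat_mul, mat_mul, hA, hB]
    calc (a⁻¹ * b) * h = a⁻¹ * (b * h * b⁻¹) * b := by group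
      _ = a⁻¹ * (a * h * a⁻¹) * b := by rw [hab]
      _ = h * (a⁻¹ * b) := by group
  -- the special elements
  obtain ⟨S, hS⟩ : ∃ S : Set ↥H, ∀ s : ↥H, s ∈ S ↔ ∃ v : Fin 2 → ZMod p, v ≠ 0 ∧
      (mat s).mulVec v = τ₀ • v ∧ (mat s).det = u := ⟨{s | ∃ v : Fin 2 → ZMod p, v ≠ 0 ∧
      (mat s).mulVec v = τ₀ • v ∧ (mat s).det = u}, fun _ => Iff.rfl⟩
  have nonscS : ∀ s : ↥H, s ∈ S → ¬ IsSc (mat s) := by
    intro s hs hsc
    obtain ⟨v, hv, hev, hdet⟩ := (hS s).mp hs
    have h3 := pow_three_of_isSc (mat s) v hv τ₀ u hτu hev hdet 1 (by rwa [pow_one])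
    have h4 := Nat.le_of_dvd (by norm_num) (u3 1 h3)
    omega
  have spec : ∀ l : ZMod p, ∃ s : ↥H, s ∈ S ∧ (mat s).mulVec ![1, l] = τ₀ • ![1, l] := by
    intro l
    have hne : (![1, l] : Fin 2 → ZMod p) ≠ 0 := by
      intro h0
      have h1 := congrFun h0 0
      simp at h1
    obtain ⟨h, hhH, hev, hdet⟩ := hspec ![1, l] hne
    have hev' : (mat ⟨h, hhH⟩).mulVec ![1, l] = τ₀ • ![1, l] := by
      rw [hmat, hτ₀]
      exact hev
    refine ⟨⟨h, hhH⟩, (hS _).mpr ⟨![1, l], hne, hev', ?_⟩, hev'⟩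
    rw [hmat, hu]
    exact hdet
  have noncomm : ∀ (si sj : ↥H) (lj : ZMod p), sj ∈ S →
      (mat sj).mulVec ![1, lj] = τ₀ • ![1, lj] → quad (mat si) lj ≠ 0 → si * sj ≠ sj * si := by
    intro si sj lj hsj hev hq hcomm
    apply hq
    have hc : mat si * mat sj = mat sj * mat si := by rw [← mat_mul, ← mat_mul, hcomm]
    obtain ⟨w, hwdef⟩ : ∃ w : Fin 2 → ZMod p, w = (mat si).mulVec ![1, lj] := ⟨_, rfl⟩
    have hw : (mat sj).mulVec w = τ₀ • w := by
      rw [hwdef, Matrix.mulVec_mulVec, ← hc, ← Matrix.mulVec_mulVec, hev, Matrix.mulVec_smul]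
    have h5 := eigen_unique (mat sj) (nonscS sj hsj) lj τ₀ hev w hw
    refine quad_eq_zero_of_eigen (mat si) lj (w 0) ?_
    rw [← hwdef]
    exact h5
  have hF : 6 < Fintype.card (ZMod p) := by
    rw [ZMod.card]
    omega
  obtain ⟨s₁, h₁, -⟩ := spec 0
  obtain ⟨l₂, q12, -, -⟩ := exists_nonroot hF (mat s₁) (mat s₁) (mat s₁) (nonscS s₁ h₁)
    (nonscS s₁ h₁) (nonscS s₁ h₁)
  obtain ⟨s₂, h₂, e₂⟩ := spec l₂
  obtain ⟨l₃, q13, q23, -⟩ := exists_nonroot hF (mat s₁) (mat s₂) (mat s₂) (nonscS s₁ h₁)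
    (nonscS s₂ h₂) (nonscS s₂ h₂)
  obtain ⟨s₃, h₃, e₃⟩ := spec l₃
  obtain ⟨l₄, q14, q24, q34⟩ := exists_nonroot hF (mat s₁) (mat s₂) (mat s₃) (nonscS s₁ h₁)
    (nonscS s₂ h₂) (nonscS s₃ h₃)
  obtain ⟨s₄, h₄, e₄⟩ := spec l₄
  have h12 := noncomm s₁ s₂ l₂ h₂ e₂ q12
  have h13 := noncomm s₁ s₃ l₃ h₃ e₃ q13
  have h14 := noncomm s₁ s₄ l₄ h₄ e₄ q14
  have h23 := noncomm s₂ s₃ l₃ h₃ e₃ q23
  have h24 := noncomm s₂ s₄ l₄ h₄ e₄ q24
  have h34 := noncomm s₃ s₄ l₄ h₄ e₄ q34
  have hSconj : ∀ s ∈ S, ∀ g : ↥H, g * s * g⁻¹ ∈ S := by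
    intro s hs g
    obtain ⟨v, hv, hev, hdet⟩ := (hS s).mp hs
    refine (hS _).mpr ⟨(mat g).mulVec v, ?_, ?_, ?_⟩
    · intro h0
      apply hv
      have h1 : (mat g⁻¹).mulVec ((mat g).mulVec v) = v := by
        rw [Matrix.mulVec_mulVec, mat_inv_mul, Matrix.one_mulVec]
      rw [← h1, h0, Matrix.mulVec_zero]
    · rw [mat_mul, mat_mul, Matrix.mulVec_mulVec, mul_assoc (mat g * mat s), mat_inv_mul,
        mul_one, ← Matrix.mulVec_mulVec, hev, Matrix.mulVec_smul]
    · rw [mat_mul, mat_mul, Matrix.det_mul, Matrix.det_mul, mul_right_comm, ← Matrix.det_mul,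
        mat_mul_inv, Matrix.det_one, one_mul]
      exact hdet
  have hSord : ∀ s ∈ S, ∀ k : ℕ, s ^ k ∈ Subgroup.center ↥H → m ∣ k := by
    intro s hs k hk
    obtain ⟨v, hv, hev, hdet⟩ := (hS s).mp hs
    have hsc : IsSc (mat s ^ k) := by
      by_contra hns
      apply h12
      apply mat_inj
      rw [mat_mul, mat_mul]
      refine comm_of_comm (mat s ^ k) (mat s₁) (mat s₂) hns ?_ ?_
      · have h' := congrArg mat (Subgroup.mem_center_iff.mp hk s₁)
        rwa [mat_mul, mat_mul, mat_pow] at h'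
      · have h' := congrArg mat (Subgroup.mem_center_iff.mp hk s₂)
        rwa [mat_mul, mat_mul, mat_pow] at h'
    exact hmdvd k (u3 k (pow_three_of_isSc (mat s) v hv τ₀ u hτu hev hdet k hsc))
  exact hm5 (K1 ↥H m hm4 hCA hN2 S hSconj hSord s₁ s₂ s₃ s₄ h₁ h₂ h₃ h₄ h12 h13 h14 h23 h24 h34)

end Cfsg.Agent.Lib.Helper93.Gl2Special
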