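import Cfsg.Agent.Lib.Helper42.ReeSpStmt

/-!
# S1159 piece DIO (helper93): the arithmetic of the class equation of the small Ree groups

From `∑ (c i - 1) |G| / (n i c i) = T`, `3 T = q⁴ (q² - 1) (q - 2)`, `∏ c i = q² - q + 1`,
`n i ∣ 6`, `1 < c i`: there are exactly two indices and `{c 0, c 1} = {q + r + 1, q - r + 1}`.
-/

set_option autoImplicit false

namespace Cfsg.Agent.Lib.Helper93.ReeSpDIO

open Cfsg.Agent.Lib.Helper42.ReeSpStmt

theorem dvd6 (a : ℕ) (h : a ∣ 6) : a = 1 ∨ a = 2 ∨ a = 3 ∨ a = 6 := by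
  have h1 := Nat.le_of_dvd (by norm_num) h
  interval_cases a <;> revert h <;> decide

theorem final (c0 c1 q r : ℕ) (h1 : 1 ≤ c1) (h : (c0 : ℤ) - c1 = 2 * r)
    (hs : (c0 : ℤ) + c1 = 2 * q + 2) : c0 = q + r + 1 ∧ c1 = q - r + 1 := by
  constructor <;> omega

theorem dio_abs (q r : ℕ) (hq27 : 27 ≤ q) (hr2 : r * r = 3 * q) (hodd : q % 2 = 1)
    (h3 : q % 3 = 0) (k : ℕ) (c n : Fin k → ℕ) (T : ℕ)
    (hc : ∀ i, 1 < c i) (hn : ∀ i, n i ∣ 6)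
    (hdiv : ∀ i, n i * c i ∣ q ^ 3 * (q - 1) * (q ^ 3 + 1))
    (hprod : ∏ i, c i = q ^ 2 - q + 1)
    (hsum : ∑ i, (c i - 1) * (q ^ 3 * (q - 1) * (q ^ 3 + 1) / (n i * c i)) = T)
    (hT : 3 * T = q ^ 4 * (q ^ 2 - 1) * (q - 2)) :
    ∃ i j : Fin k, c i = q + r + 1 ∧ c j = q - r + 1 ∧ ∀ l, l = i ∨ l = j := by
  obtain ⟨N, hNdef⟩ : ∃ N, N = q ^ 3 * (q - 1) * (q ^ 3 + 1) := ⟨_, rfl⟩
  obtain ⟨Q, hQdef⟩ : ∃ Q, Q = q ^ 2 - q + 1 := ⟨_, rfl⟩
  rw [← hNdef] at hdiv hsum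
  rw [← hQdef] at hprod
  have hqq : q ≤ q ^ 2 := Nat.le_self_pow (by norm_num) q
  have hq21 : 1 ≤ q ^ 2 := Nat.one_le_pow _ _ (by omega)
  have hQz : (Q : ℤ) = (q : ℤ) ^ 2 - q + 1 := by
    rw [hQdef]; push_cast [Nat.cast_sub hqq]; ring
  have hNz : (N : ℤ) = (q : ℤ) ^ 3 * ((q : ℤ) ^ 2 - 1) * ((q : ℤ) ^ 2 - q + 1) := by
    rw [hNdef]; push_cast [Nat.cast_sub (by omega : 1 ≤ q)]; ring
  have hTz : 3 * (T : ℤ) = (q : ℤ) ^ 4 * ((q : ℤ) ^ 2 - 1) * ((q : ℤ) - 2) := by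
    have h := congrArg (Nat.cast : ℕ → ℤ) hT
    push_cast [Nat.cast_sub hq21, Nat.cast_sub (by omega : 2 ≤ q)] at h
    linarith
  have hqz : (27 : ℤ) ≤ (q : ℤ) := by exact_mod_cast hq27
  have hWpos : (0 : ℤ) < (q : ℤ) ^ 3 * ((q : ℤ) ^ 2 - 1) :=
    mul_pos (by positivity) (by nlinarith)
  have hQpos : (0 : ℤ) < (q : ℤ) ^ 2 - q + 1 := by nlinarith
  have hNpos : 0 < N := by
    have h : (0 : ℤ) < (N : ℤ) := by rw [hNz]; exact mul_pos hWpos hQpos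
    exact_mod_cast h
  have hQ2 : Q % 2 = 1 := by
    have h1 : Q + q = q ^ 2 + 1 := by rw [hQdef]; omega
    have h2 : q ^ 2 % 2 = 1 := by rw [Nat.pow_mod, hodd]
    omega
  have hQ3 : Q % 3 = 1 := by
    have h1 : Q + q = q ^ 2 + 1 := by rw [hQdef]; omega
    have h2 : q ^ 2 % 3 = 0 := by rw [Nat.pow_mod, h3]
    omega
  have hc5 : ∀ i, 5 ≤ c i := by
    intro i
    have hdvd : c i ∣ Q := hprod ▸ Finset.dvd_prod_of_mem c (Finset.mem_univ i)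
    obtain ⟨e, he⟩ := hdvd
    have h1 := hc i
    by_contra hlt
    have h2 : c i = 2 ∨ c i = 3 ∨ c i = 4 := by omega
    rcases h2 with h2 | h2 | h2 <;> rw [h2] at he <;> omega
  have hn6 : ∀ i, 1 ≤ n i ∧ n i ≤ 6 := fun i =>
    ⟨Nat.pos_of_dvd_of_pos (hn i) (by norm_num), Nat.le_of_dvd (by norm_num) (hn i)⟩
  have hterm : ∀ i, ∃ d : ℕ, N = n i * c i * d ∧
      (c i - 1) * (N / (n i * c i)) = (c i - 1) * d := by
    intro i
    obtain ⟨d, hd⟩ := hdiv i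
    refine ⟨d, hd, ?_⟩
    have hpos : 0 < n i * c i := Nat.mul_pos (hn6 i).1 (by have := hc i; omega)
    rw [Nat.div_eq_of_eq_mul_right hpos hd]
  have hterm_ge : ∀ i, 4 * N ≤ 30 * ((c i - 1) * (N / (n i * c i))) := by
    intro i
    obtain ⟨d, hd, he⟩ := hterm i
    rw [he]
    have h5 : 4 * c i ≤ 5 * (c i - 1) := by have := hc5 i; omega
    calc 4 * N = n i * (4 * c i) * d := by rw [hd]; ring
      _ ≤ 6 * (5 * (c i - 1)) * d := Nat.mul_le_mul (Nat.mul_le_mul (hn6 i).2 h5) le_rfl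
      _ = 30 * ((c i - 1) * d) := by ring
  have hbound : 4 * N * k ≤ 30 * T := by
    rw [← hsum, Finset.mul_sum]
    calc 4 * N * k = ∑ _i : Fin k, 4 * N := by simp [mul_comm]
      _ ≤ _ := Finset.sum_le_sum (fun i _ => hterm_ge i)
  have hTN : 30 * T < 10 * N := by
    have h : (10 : ℤ) * N - 30 * T
        = 10 * ((q : ℤ) ^ 3 * ((q : ℤ) ^ 2 - 1)) * ((q : ℤ) + 1) := by
      linear_combination 10 * hNz - 10 * hTz
    have h' : (0 : ℤ) < 10 * ((q : ℤ) ^ 3 * ((q : ℤ) ^ 2 - 1)) * ((q : ℤ) + 1) :=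
      mul_pos (mul_pos (by norm_num) hWpos) (by linarith)
    have h'' : (30 : ℤ) * T < 10 * N := by linarith
    exact_mod_cast h''
  have hk2 : k ≤ 2 := by
    by_contra hk
    have h3k : 3 ≤ k := by omega
    have h4 : 4 * N * 3 ≤ 4 * N * k := Nat.mul_le_mul_left _ h3k
    linarith
  obtain rfl | rfl | rfl : k = 0 ∨ k = 1 ∨ k = 2 := by omega
  · -- no index
    exfalso
    simp at hprod
    have h : (Q : ℤ) = 1 := by exact_mod_cast hprod.symm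
    rw [hQz] at h
    nlinarith
  · -- one index
    exfalso
    rw [Fin.prod_univ_one] at hprod
    rw [Fin.sum_univ_one] at hsum
    obtain ⟨d, hd, he⟩ := hterm 0
    rw [he] at hsum
    have hc1 : 1 ≤ c 0 := by have := hc 0; omega
    have hsumz : ((c 0 : ℤ) - 1) * d = T := by
      have h := congrArg (Nat.cast : ℕ → ℤ) hsum
      push_cast [Nat.cast_sub hc1] at h
      exact h
    have hdz : (N : ℤ) = n 0 * c 0 * d := by exact_mod_cast hd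
    have hcz : (c 0 : ℤ) = (q : ℤ) ^ 2 - q + 1 := by rw [← hQz]; exact_mod_cast hprod
    have h1 : (n 0 : ℤ) * d = (q : ℤ) ^ 3 * ((q : ℤ) ^ 2 - 1) := by
      apply mul_left_cancel₀ (ne_of_gt hQpos)
      linear_combination (-1 : ℤ) * hdz + hNz - (n 0 : ℤ) * d * hcz
    have h2 : 3 * ((q : ℤ) - 1) = (n 0 : ℤ) * ((q : ℤ) - 2) := by
      have hne : (q : ℤ) ^ 4 * ((q : ℤ) ^ 2 - 1) ≠ 0 := by
        have h4 : (0 : ℤ) < (q : ℤ) * ((q : ℤ) ^ 3 * ((q : ℤ) ^ 2 - 1)) :=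
          mul_pos (by linarith) hWpos
        have h5 : (q : ℤ) ^ 4 * ((q : ℤ) ^ 2 - 1) = (q : ℤ) * ((q : ℤ) ^ 3 * ((q : ℤ) ^ 2 - 1)) := by
          ring
        rw [h5]
        exact ne_of_gt h4
      apply mul_left_cancel₀ hne
      linear_combination (n 0 : ℤ) * hTz + 3 * (n 0 : ℤ) * hsumz - 3 * ((c 0 : ℤ) - 1) * h1
        - 3 * ((q : ℤ) ^ 3 * ((q : ℤ) ^ 2 - 1)) * hcz
    rcases dvd6 _ (hn 0) with h | h | h | h <;> rw [h] at h2 <;> push_cast at h2 <;> linarith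
  · -- two indices
    rw [Fin.prod_univ_two] at hprod
    rw [Fin.sum_univ_two] at hsum
    obtain ⟨d0, hd0, he0⟩ := hterm 0
    obtain ⟨d1, hd1, he1⟩ := hterm 1
    have h50 : 4 * c 0 ≤ 5 * (c 0 - 1) := by have := hc5 0; omega
    have h51 : 4 * c 1 ≤ 5 * (c 1 - 1) := by have := hc5 1; omega
    have hn0 : n 0 = 6 := by
      by_contra hne
      have h3' : n 0 ≤ 3 := by rcases dvd6 _ (hn 0) with h | h | h | h <;> omega
      have hA : 4 * N ≤ 15 * ((c 0 - 1) * (N / (n 0 * c 0))) := by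
        rw [he0]
        calc 4 * N = n 0 * (4 * c 0) * d0 := by rw [hd0]; ring
          _ ≤ 3 * (5 * (c 0 - 1)) * d0 := Nat.mul_le_mul (Nat.mul_le_mul h3' h50) le_rfl
          _ = 15 * ((c 0 - 1) * d0) := by ring
      have hB := hterm_ge 1
      linarith
    have hn1 : n 1 = 6 := by
      by_contra hne
      have h3' : n 1 ≤ 3 := by rcases dvd6 _ (hn 1) with h | h | h | h <;> omega
      have hA : 4 * N ≤ 15 * ((c 1 - 1) * (N / (n 1 * c 1))) := by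
        rw [he1]
        calc 4 * N = n 1 * (4 * c 1) * d1 := by rw [hd1]; ring
          _ ≤ 3 * (5 * (c 1 - 1)) * d1 := Nat.mul_le_mul (Nat.mul_le_mul h3' h51) le_rfl
          _ = 15 * ((c 1 - 1) * d1) := by ring
      have hB := hterm_ge 0
      linarith
    rw [he0, he1] at hsum
    have hc01 : 1 ≤ c 0 := by have := hc 0; omega
    have hc11 : 1 ≤ c 1 := by have := hc 1; omega
    have hsumz : ((c 0 : ℤ) - 1) * d0 + ((c 1 : ℤ) - 1) * d1 = T := by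
      have h := congrArg (Nat.cast : ℕ → ℤ) hsum
      push_cast [Nat.cast_sub hc01, Nat.cast_sub hc11] at h
      exact h
    have hd0z : (N : ℤ) = 6 * c 0 * d0 := by rw [hn0] at hd0; exact_mod_cast hd0
    have hd1z : (N : ℤ) = 6 * c 1 * d1 := by rw [hn1] at hd1; exact_mod_cast hd1
    have hpz : (c 0 : ℤ) * c 1 = (q : ℤ) ^ 2 - q + 1 := by rw [← hQz]; exact_mod_cast hprod
    have hs : (c 0 : ℤ) + c 1 = 2 * q + 2 := by
      have hne : (q : ℤ) ^ 3 * ((q : ℤ) ^ 2 - 1) * ((q : ℤ) ^ 2 - q + 1) ≠ 0 :=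
        ne_of_gt (mul_pos hWpos hQpos)
      apply mul_left_cancel₀ hne
      linear_combination 2 * ((N : ℤ) - 3 * T) * hpz
        + (2 * ((q : ℤ) ^ 2 - q + 1) - ((c 0 : ℤ) + c 1)) * hNz
        - 2 * ((q : ℤ) ^ 2 - q + 1) * hTz - 6 * (c 0 : ℤ) * c 1 * hsumz
        - (c 1 : ℤ) * ((c 0 : ℤ) - 1) * hd0z - (c 0 : ℤ) * ((c 1 : ℤ) - 1) * hd1z
    have hrz : (r : ℤ) * r = 3 * q := by exact_mod_cast hr2
    have hsq : ((c 0 : ℤ) - c 1) ^ 2 = (2 * (r : ℤ)) ^ 2 := by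
      have h : ((c 0 : ℤ) - c 1) ^ 2 = ((c 0 : ℤ) + c 1) ^ 2 - 4 * ((c 0 : ℤ) * c 1) := by ring
      rw [h, hs, hpz]
      linear_combination (-4 : ℤ) * hrz
    rcases sq_eq_sq_iff_eq_or_eq_neg.1 hsq with h | h
    · obtain ⟨h1, h2⟩ := final (c 0) (c 1) q r hc11 h hs
      exact ⟨0, 1, h1, h2, Fin.forall_fin_two.2 ⟨Or.inl rfl, Or.inr rfl⟩⟩
    · obtain ⟨h1, h2⟩ := final (c 1) (c 0) q r hc01 (by rw [neg_eq_iff_eq_neg.symm] at h; rw [← h]; ring)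
        (by rw [← hs]; ring)
      exact ⟨1, 0, h1, h2, Fin.forall_fin_two.2 ⟨Or.inr rfl, Or.inl rfl⟩⟩

theorem main : Dio := by
  intro m hm k c n T hc hn hdiv hprod hsum hT
  have hq27 : 27 ≤ qq m := by
    show 27 ≤ 3 ^ (2 * m + 1)
    calc 27 = 3 ^ 3 := by norm_num
      _ ≤ 3 ^ (2 * m + 1) := Nat.pow_le_pow_right (by norm_num) (by omega)
  have hr2 : rr m * rr m = 3 * qq m := by
    show 3 ^ (m + 1) * 3 ^ (m + 1) = 3 * 3 ^ (2 * m + 1)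
    rw [← pow_add, ← pow_succ']
    congr 1
    omega
  have hodd : qq m % 2 = 1 := by
    show 3 ^ (2 * m + 1) % 2 = 1
    rw [Nat.pow_mod]
    norm_num
  have h3 : qq m % 3 = 0 := by
    show 3 ^ (2 * m + 1) % 3 = 0
    rw [pow_succ]
    simp
  exact dio_abs (qq m) (rr m) hq27 hr2 hodd h3 k c n T hc hn hdiv hprod hsum hT

end Cfsg.Agent.Lib.Helper93.ReeSpDIO
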