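import Cfsg.Agent.Lib.Helper42.ReeSpStmt

/-!
# S1159 piece TISYL (helper93)

A TI Sylow `p`-subgroup `P` has `|Syl_p| ≡ 1 mod |P|`: `P` acts freely on the other Sylow
subgroups.
-/

set_option autoImplicit false

namespace Cfsg.Agent.Lib.Helper93.ReeSpTISYL

open Cfsg.Agent.Lib.Helper42.ReeSpStmt

universe u

theorem mem_smul_sylow {G : Type u} [Group G] {p : ℕ} (g : G) (P : Sylow p G) (x : G) :
    x ∈ ((g • P : Sylow p G) : Subgroup G) ↔ g⁻¹ * x * g ∈ (P : Subgroup G) := by
  rw [Sylow.coe_subgroup_smul, Subgroup.mem_pointwise_smul_iff_inv_smul_mem]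
  simp [MulAut.smul_def]

theorem main : TISyl.{u} := by
  intro G _ _ p _ P hTI
  classical
  -- an element of `P` fixing another Sylow subgroup is trivial
  have key : ∀ (Q : Sylow p G), Q ≠ P → ∀ c : G, c ∈ (P : Subgroup G) → c • Q = Q → c = 1 := by
    intro Q hQ c hcP hcQ
    by_contra hc1
    have hcN : c ∈ Subgroup.normalizer ((Q : Subgroup G) : Set G) :=
      Sylow.smul_eq_iff_mem_normalizer.1 hcQ
    have hcPQ : c ∈ (P : Subgroup G) ⊓ (Q : Subgroup G) := by
      rw [← P.isPGroup'.inf_normalizer_sylow Q]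
      exact ⟨hcP, hcN⟩
    obtain ⟨g, rfl⟩ := MulAction.exists_smul_eq G P Q
    have hy : g⁻¹ * c * g ∈ (P : Subgroup G) := (mem_smul_sylow g P c).1 hcPQ.2
    have hne : g⁻¹ * c * g ≠ 1 := by
      intro h
      apply hc1
      have h' := congrArg (fun z => g * z * g⁻¹) h
      simpa [mul_assoc] using h'
    have hnorm : ∀ x ∈ (P : Subgroup G), g * x * g⁻¹ ∈ (P : Subgroup G) :=
      hTI g ⟨g⁻¹ * c * g, hy, hne, by simpa [mul_assoc] using hcP⟩
    have hle : ((g • P : Sylow p G) : Subgroup G) ≤ (P : Subgroup G) := by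
      intro x hx
      rw [mem_smul_sylow] at hx
      have h' := hnorm _ hx
      simpa [mul_assoc] using h'
    exact hQ (Sylow.ext ((g • P).is_maximal' P.isPGroup' hle).symm)
  -- the invariant set of the Sylow subgroups other than `P`
  let X : SubMulAction ↥(P : Subgroup G) (Sylow p G) :=
    { carrier := {Q | Q ≠ P}
      smul_mem' := by
        intro c Q hQ hcQ
        apply hQ
        have h1 : c⁻¹ • (c • Q) = Q := inv_smul_smul c Q
        rw [hcQ] at h1
        rw [← h1]
        show ((c⁻¹ : ↥(P : Subgroup G)) : G) • P = P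
        exact Sylow.smul_eq_iff_mem_normalizer.2 (Subgroup.le_normalizer (c⁻¹).2) }
  have hfree : ∀ b : X, MulAction.stabilizer ↥(P : Subgroup G) b = ⊥ := by
    intro b
    rw [SubMulAction.stabilizer_of_subMul, eq_bot_iff]
    intro c hc
    rw [MulAction.mem_stabilizer_iff] at hc
    rw [Subgroup.mem_bot]
    apply Subtype.ext
    exact key (b : Sylow p G) b.2 (c : G) c.2 hc
  have hXcard : Nat.card X = Nat.card (Quotient (MulAction.orbitRel ↥(P : Subgroup G) X)) *
      Nat.card ↥(P : Subgroup G) := by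
    rw [Nat.card_congr (MulAction.selfEquivOrbitsQuotientProd hfree), Nat.card_prod]
  have hS : Nat.card (Sylow p G) = Nat.card {Q : Sylow p G // Q ≠ P} + 1 := by
    rw [← Finite.card_option]
    exact (Nat.card_congr (Equiv.optionSubtypeNe P)).symm
  have hX' : Nat.card {Q : Sylow p G // Q ≠ P} = Nat.card X := rfl
  rw [hS, hX', hXcard, Nat.add_mod, Nat.mul_mod_left, zero_add, Nat.mod_mod]

end Cfsg.Agent.Lib.Helper93.ReeSpTISYL
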