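import Mathlib
import Cfsg.Prelude.Def_SporadicCombinatorics
import Cfsg.Agent.Lib.Helper92.LeechCore
import Cfsg.Agent.Lib.Helper7.M24Mem

/-!
Signed coordinate permutations (`Cfsg.signedPerm σ c`, with `σ ∈ M24` and `c` the support of a
code word) preserve `leechSet`, hence give elements of `Co0`.
-/

set_option autoImplicit false

namespace Cfsg.Agent.Lib.Helper93.Monomial

open Cfsg Cfsg.Agent.Lib.Helper92.LeechCore Cfsg.Agent.Lib.Helper7.M24Mem
open scoped Pointwise

theorem four_dvd_card {c : Finset GolayPt}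
    (hc : c ∈ supports (golayCode : Set (GolayPt → ZMod 2))) : 4 ∣ c.card := by
  rcases card_mem hc with h | h | h | h | h <;> omega

theorem card_symmDiff_add (a b : Finset GolayPt) :
    (symmDiff a b).card + 2 * (a ∩ b).card = a.card + b.card := by
  have h1 : (symmDiff a b).card = (a \ b).card + (b \ a).card := by
    rw [symmDiff_def, Finset.sup_eq_union, Finset.card_union_of_disjoint]
    rw [Finset.disjoint_left]
    intro i hi hi'
    rw [Finset.mem_sdiff] at hi hi'
    exact hi.2 hi'.1
  have h2 := Finset.card_sdiff_add_card_inter a b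
  have h3 := Finset.card_sdiff_add_card_inter b a
  rw [Finset.inter_comm b a] at h3
  omega

theorem even_card_inter {a b : Finset GolayPt}
    (ha : a ∈ supports (golayCode : Set (GolayPt → ZMod 2)))
    (hb : b ∈ supports (golayCode : Set (GolayPt → ZMod 2))) : 2 ∣ (a ∩ b).card := by
  have h1 := four_dvd_card ha
  have h2 := four_dvd_card hb
  have h3 := four_dvd_card (symmDiff_mem ha hb)
  have h4 := card_symmDiff_add a b
  omega

/-- The sum of the coordinates of a vector of `leechSet` over the support of a code word is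
divisible by 4. -/
theorem sum_over_codeword {x : GolayPt → ℤ} (hx : x ∈ leechSet) {d : Finset GolayPt}
    (hd : d ∈ supports (golayCode : Set (GolayPt → ZMod 2))) : (4 : ℤ) ∣ ∑ j ∈ d, x j := by
  obtain ⟨m, h1, h2, h3⟩ := hx
  set m' : ℤ := m % 2 with hm'
  have key : ∀ j, (4 : ℤ) ∣ x j - m' - (if x j ≡ m' + 2 [ZMOD 4] then 2 else 0) := by
    intro j
    have := h1 j
    simp only [Int.ModEq] at this ⊢
    split_ifs with h <;> omega
  have hsplit : ∑ j ∈ d, x j = ∑ j ∈ d, (x j - m' - (if x j ≡ m' + 2 [ZMOD 4] then 2 else 0))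
      + (d.card * m' + 2 * ((d ∩ (Finset.univ.filter fun i => x i ≡ m' + 2 [ZMOD 4])).card : ℤ)) := by
    have e1 : ∑ j ∈ d, (if x j ≡ m' + 2 [ZMOD 4] then (2 : ℤ) else 0)
        = 2 * ((d ∩ (Finset.univ.filter fun i => x i ≡ m' + 2 [ZMOD 4])).card : ℤ) := by
      rw [← Finset.sum_filter, Finset.sum_const, nsmul_eq_mul, mul_comm]
      congr 3
      ext i
      simp [Finset.mem_inter, Finset.mem_filter]
    rw [Finset.sum_sub_distrib, Finset.sum_sub_distrib, Finset.sum_const, nsmul_eq_mul, e1]
    ring
  rw [hsplit]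
  apply dvd_add (Finset.dvd_sum fun j _ => key j)
  obtain ⟨a, ha⟩ := four_dvd_card hd
  obtain ⟨b, hb⟩ := even_card_inter hd (h3 (m' + 2))
  rw [ha, hb]
  push_cast
  exact ⟨a * m' + b, by ring⟩

theorem smul_inv_mem_supports {σ : Equiv.Perm GolayPt} (hσ : σ ∈ M24) {c : Finset GolayPt}
    (hc : c ∈ supports (golayCode : Set (GolayPt → ZMod 2))) :
    σ⁻¹ • c ∈ supports (golayCode : Set (GolayPt → ZMod 2)) :=
  smul_mem_supports (M24.inv_mem hσ) hc

theorem sum_signedPerm (σ : Equiv.Perm GolayPt) (c : Finset GolayPt) (x : GolayPt → ℤ) :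
    ∑ i, signedPerm σ c x i = ∑ i, x i - 2 * ∑ j ∈ σ⁻¹ • c, x j := by
  have e1 : ∑ i, signedPerm σ c x i
      = ∑ i, (x (σ.symm i) - 2 * (if i ∈ c then x (σ.symm i) else 0)) := by
    apply Finset.sum_congr rfl
    intro i _
    unfold signedPerm
    split_ifs <;> ring
  have e2 : ∑ i, x (σ.symm i) = ∑ i, x i := Equiv.sum_comp σ.symm x
  have e3 : ∑ i, (if i ∈ c then x (σ.symm i) else 0) = ∑ j ∈ σ⁻¹ • c, x j := by
    rw [← Finset.sum_filter, Finset.filter_mem_eq_inter, Finset.univ_inter]
    have : σ⁻¹ • c = c.image (σ.symm) := rfl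
    rw [this, Finset.sum_image]
    intro a _ b _ hab
    exact σ.symm.injective hab
  rw [e1, Finset.sum_sub_distrib, ← Finset.mul_sum, e2, e3]

theorem mem_smul_filter (σ : Equiv.Perm GolayPt) (P : GolayPt → Prop) [DecidablePred P]
    (i : GolayPt) : i ∈ σ • (Finset.univ.filter P) ↔ P (σ.symm i) := by
  rw [← Finset.inv_smul_mem_iff]
  simp [Equiv.Perm.smul_def]

/-- Signed coordinate permutations attached to `M24` and the code preserve `leechSet`. -/
theorem signedPerm_mem_leechSet {σ : Equiv.Perm GolayPt} (hσ : σ ∈ M24) {c : Finset GolayPt}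
    (hc : c ∈ supports (golayCode : Set (GolayPt → ZMod 2))) {x : GolayPt → ℤ}
    (hx : x ∈ leechSet) : signedPerm σ c x ∈ leechSet := by
  have hsum := sum_over_codeword hx (smul_inv_mem_supports hσ hc)
  obtain ⟨m, h1, h2, h3⟩ := hx
  refine ⟨m, fun i => ?_, ?_, fun k => ?_⟩
  · have := h1 (σ.symm i)
    unfold signedPerm
    simp only [Int.ModEq] at this ⊢
    split_ifs <;> omega
  · rw [sum_signedPerm]
    obtain ⟨a, ha⟩ := hsum
    rw [ha]
    simp only [Int.ModEq] at h2 ⊢
    omega
  · by_cases hm : m % 2 = 0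
    · -- even vectors: signs do not matter modulo 4
      have : (Finset.univ.filter fun i => signedPerm σ c x i ≡ k [ZMOD 4])
          = σ • (Finset.univ.filter fun i => x i ≡ k [ZMOD 4]) := by
        ext i
        rw [mem_smul_filter, Finset.mem_filter]
        have := h1 (σ.symm i)
        unfold signedPerm
        simp only [Finset.mem_univ, true_and, Int.ModEq] at this ⊢
        split_ifs <;> omega
      rw [this]
      exact smul_mem_supports hσ (h3 k)
    · by_cases hk : k % 2 = 0
      · have : (Finset.univ.filter fun i => signedPerm σ c x i ≡ k [ZMOD 4]) = ∅ := by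
          apply Finset.filter_false_of_mem
          intro i _
          have := h1 (σ.symm i)
          unfold signedPerm
          simp only [Int.ModEq] at this ⊢
          split_ifs <;> omega
        rw [this]
        exact empty_mem
      · have : (Finset.univ.filter fun i => signedPerm σ c x i ≡ k [ZMOD 4])
            = symmDiff (σ • (Finset.univ.filter fun i => x i ≡ k [ZMOD 4])) c := by
          ext i
          rw [Finset.mem_symmDiff, mem_smul_filter, Finset.mem_filter]
          have := h1 (σ.symm i)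
          unfold signedPerm
          simp only [Finset.mem_univ, true_and, Int.ModEq] at this ⊢
          split_ifs with hi
          · constructor
            · intro h
              right
              exact ⟨hi, by omega⟩
            · rintro (⟨_, h⟩ | ⟨_, h⟩)
              · exact absurd hi h
              · omega
          · constructor
            · intro h
              left
              exact ⟨h, hi⟩
            · rintro (⟨h, _⟩ | ⟨h, _⟩)
              · exact h
              · exact absurd h hi
        rw [this]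
        exact symmDiff_mem (smul_mem_supports hσ (h3 k)) hc

theorem signedPerm_mem_leechLattice {σ : Equiv.Perm GolayPt} (hσ : σ ∈ M24) {c : Finset GolayPt}
    (hc : c ∈ supports (golayCode : Set (GolayPt → ZMod 2))) {x : GolayPt → ℤ}
    (hx : x ∈ leechLattice) : signedPerm σ c x ∈ leechLattice :=
  mem_leechLattice_iff.mpr (signedPerm_mem_leechSet hσ hc (mem_leechLattice_iff.mp hx))

theorem signedPerm_add (σ : Equiv.Perm GolayPt) (c : Finset GolayPt) (x y : GolayPt → ℤ) :
    signedPerm σ c (x + y) = signedPerm σ c x + signedPerm σ c y := by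
  funext i
  unfold signedPerm
  simp only [Pi.add_apply]
  split_ifs <;> ring

theorem sqNorm_signedPerm (σ : Equiv.Perm GolayPt) (c : Finset GolayPt) (x : GolayPt → ℤ) :
    sqNorm (signedPerm σ c x) = sqNorm x := by
  unfold sqNorm
  have e1 : ∑ i, signedPerm σ c x i ^ 2 = ∑ i, (fun j => x j ^ 2) (σ.symm i) := by
    apply Finset.sum_congr rfl
    intro i _
    unfold signedPerm
    split_ifs <;> ring
  rw [e1]
  exact Equiv.sum_comp σ.symm (fun j => x j ^ 2)

theorem signedPerm_inv_left (σ : Equiv.Perm GolayPt) (c : Finset GolayPt) (x : GolayPt → ℤ) :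
    signedPerm σ⁻¹ (σ⁻¹ • c) (signedPerm σ c x) = x := by
  funext i
  have hi : i ∈ σ⁻¹ • c ↔ σ i ∈ c := by
    rw [← Finset.inv_smul_mem_iff]
    simp [Equiv.Perm.smul_def]
  have e : (σ⁻¹).symm i = σ i := rfl
  unfold signedPerm
  simp only [e, hi, Equiv.symm_apply_apply]
  split_ifs <;> ring

theorem signedPerm_inv_right (σ : Equiv.Perm GolayPt) (c : Finset GolayPt) (x : GolayPt → ℤ) :
    signedPerm σ c (signedPerm σ⁻¹ (σ⁻¹ • c) x) = x := by
  funext i
  have hi : σ.symm i ∈ σ⁻¹ • c ↔ i ∈ c := by
    rw [← Finset.inv_smul_mem_iff]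
    simp [Equiv.Perm.smul_def]
  have e : (σ⁻¹).symm (σ.symm i) = i := by
    show σ (σ.symm i) = i
    simp
  unfold signedPerm
  simp only [e, hi]
  split_ifs <;> ring

/-- The signed coordinate permutation as a permutation of the lattice. -/
def monoEquiv (σ : Equiv.Perm GolayPt) (hσ : σ ∈ M24) (c : Finset GolayPt)
    (hc : c ∈ supports (golayCode : Set (GolayPt → ZMod 2))) : Equiv.Perm leechLattice where
  toFun v := ⟨signedPerm σ c v, signedPerm_mem_leechLattice hσ hc v.2⟩
  invFun v := ⟨signedPerm σ⁻¹ (σ⁻¹ • c) v,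
    signedPerm_mem_leechLattice (M24.inv_mem hσ) (smul_inv_mem_supports hσ hc) v.2⟩
  left_inv v := Subtype.ext (signedPerm_inv_left σ c v)
  right_inv v := Subtype.ext (signedPerm_inv_right σ c v)

theorem monoEquiv_apply (σ : Equiv.Perm GolayPt) (hσ : σ ∈ M24) (c : Finset GolayPt)
    (hc : c ∈ supports (golayCode : Set (GolayPt → ZMod 2))) (v : leechLattice) :
    ((monoEquiv σ hσ c hc v : leechLattice) : GolayPt → ℤ) = signedPerm σ c v := rfl

theorem monoEquiv_mem_Co0 (σ : Equiv.Perm GolayPt) (hσ : σ ∈ M24) (c : Finset GolayPt)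
    (hc : c ∈ supports (golayCode : Set (GolayPt → ZMod 2))) : monoEquiv σ hσ c hc ∈ Co0 := by
  refine ⟨fun v w => ?_, fun v => ?_⟩
  · apply Subtype.ext
    rw [AddSubgroup.coe_add, monoEquiv_apply, monoEquiv_apply, monoEquiv_apply,
      AddSubgroup.coe_add, signedPerm_add]
  · rw [monoEquiv_apply, sqNorm_signedPerm]

/-- Negation of the lattice, as an element of `Co0`. -/
def negEquiv : Equiv.Perm leechLattice := Equiv.neg leechLattice

theorem negEquiv_apply (v : leechLattice) :
    ((negEquiv v : leechLattice) : GolayPt → ℤ) = -(v : GolayPt → ℤ) := rfl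

theorem negEquiv_mem_Co0 : negEquiv ∈ Co0 := by
  refine ⟨fun v w => ?_, fun v => ?_⟩
  · apply Subtype.ext
    rw [AddSubgroup.coe_add, negEquiv_apply, negEquiv_apply, negEquiv_apply, AddSubgroup.coe_add]
    abel
  · rw [negEquiv_apply, sqNorm_neg]

end Cfsg.Agent.Lib.Helper93.Monomial
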