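import Mathlib
import Cfsg.Agent.Lib.Helper68.M11UStmt

set_option autoImplicit false

/-! Piece INVCOSET of S0420 (for helper68): in a simple group of order 7920 with self-centralizing
Sylow 3-subgroups, the involutions inverting a Sylow 3-subgroup `P` inverted by `t` are exactly
the elements of the coset `t P`. -/

namespace Cfsg.Agent.Lib.Helper93.MUINVCOSET

open Cfsg Cfsg.Agent.Lib.Helper68.M11UStmt Cfsg.Agent.Lib.Helper92.M11Stmt

universe u

/-- a Sylow 3-subgroup of a group of order 7920 has order 9 -/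
theorem card_syl3 {G : Type u} [Group G] [Finite G] (hG : Nat.card G = 7920) (P : Sylow 3 G) :
    Nat.card (P : Subgroup G) = 9 := by
  obtain ⟨k, hk⟩ := IsPGroup.iff_card.1 P.isPGroup'
  have h9 : 3 ^ 2 ∣ Nat.card (P : Subgroup G) :=
    P.pow_dvd_card_of_pow_dvd_card (by rw [hG]; norm_num)
  have hdvd : Nat.card (P : Subgroup G) ∣ 7920 := by
    rw [← hG]; exact Subgroup.card_subgroup_dvd_card _
  rw [hk] at h9 hdvd ⊢
  have hk2 : 2 ≤ k := (Nat.pow_dvd_pow_iff_le_right (by norm_num)).1 h9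
  have hk3 : k < 3 := by
    by_contra h
    have h27 : 3 ^ 3 ∣ 7920 := (pow_dvd_pow 3 (by omega)).trans hdvd
    norm_num at h27
  have hk' : k = 2 := by omega
  rw [hk']; norm_num

/-- a Sylow 3-subgroup of a group of order 7920 is abelian -/
theorem comm_syl3 {G : Type u} [Group G] [Finite G] (hG : Nat.card G = 7920) (P : Sylow 3 G) :
    ∀ a ∈ (P : Subgroup G), ∀ b ∈ (P : Subgroup G), a * b = b * a := by
  have hP9 : Nat.card (P : Subgroup G) = 3 ^ 2 := by rw [card_syl3 hG P]; norm_num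
  intro a ha b hb
  have hc : IsMulCommutative ↥(P : Subgroup G) := IsPGroup.isMulCommutative_of_card_eq_prime_sq hP9
  exact congrArg Subtype.val (hc.is_comm.comm ⟨a, ha⟩ ⟨b, hb⟩)

theorem main : CentSyl3.{u} → InvCoset.{u} := by
  intro hC G _ _ _ hG P t ht hinv s
  have hP9 : Nat.card (P : Subgroup G) = 9 := card_syl3 hG P
  have habG := comm_syl3 hG P
  have ht2 : t * t = 1 := by
    have h := pow_orderOf_eq_one t
    rw [ht, sq] at h; exact h
  constructor
  · rintro ⟨hs, hsinv⟩
    refine ⟨t⁻¹ * s, ?_, by group⟩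
    apply hC G hG P
    intro x hx
    have h1 := hsinv x hx
    have h2 := hinv x hx
    have h3 : s * x = x⁻¹ * s := by rw [← h1]; group
    have h4 : t⁻¹ * x⁻¹ = x * t⁻¹ := by rw [← h2]; group
    calc t⁻¹ * s * x = t⁻¹ * (s * x) := by group
      _ = t⁻¹ * (x⁻¹ * s) := by rw [h3]
      _ = (t⁻¹ * x⁻¹) * s := by group
      _ = x * t⁻¹ * s := by rw [h4]
      _ = x * (t⁻¹ * s) := by group
  · rintro ⟨x, hx, rfl⟩
    have h2 := hinv x hx
    have hsq : (t * x) * (t * x) = 1 := by
      calc (t * x) * (t * x) = (t * x * t⁻¹) * (t * t) * x := by group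
        _ = 1 := by rw [h2, ht2]; group
    have hne : t * x ≠ 1 := by
      intro h
      have htx : t = x⁻¹ := eq_inv_of_mul_eq_one_left h
      have htP : t ∈ (P : Subgroup G) := by rw [htx]; exact (P : Subgroup G).inv_mem hx
      have hdvd : orderOf t ∣ 9 := by
        rw [← hP9]; exact Subgroup.orderOf_dvd_natCard _ htP
      rw [ht] at hdvd; norm_num at hdvd
    refine ⟨orderOf_eq_prime (by rw [sq]; exact hsq) hne, ?_⟩
    intro y hy
    have h5 := hinv y hy
    calc t * x * y * (t * x)⁻¹ = t * (x * y) * x⁻¹ * t⁻¹ := by group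
      _ = t * (y * x) * x⁻¹ * t⁻¹ := by rw [habG x hx y hy]
      _ = t * y * t⁻¹ := by group
      _ = y⁻¹ := h5

end Cfsg.Agent.Lib.Helper93.MUINVCOSET
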