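import Mathlib
import Cfsg.Agent.Lib.Helper68.M11UStmt
import Cfsg.Agent.Lib.Helper93.MUINVCOSET
import Cfsg.Agent.S0435
import Cfsg.Agent.Lib.Helper92.M11Asm4
import Cfsg.Agent.Lib.Helper92.M11EX
import Cfsg.Agent.Lib.Helper69.M11R11
import Cfsg.Agent.Lib.Helper69.M11R5
import Cfsg.Agent.Lib.Helper33.M11DIV
import Cfsg.Agent.Lib.Helper3.M11M4
import Cfsg.Agent.Lib.Helper59.M11I3

set_option autoImplicit false

/-! Piece CENT3 of S0420 (for helper68): a Sylow 3-subgroup of a simple group of order 7920 is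
self-centralizing. -/

namespace Cfsg.Agent.Lib.Helper93.MUCENT3

open Cfsg Cfsg.Agent.Lib.Helper68.M11UStmt Cfsg.Agent.Lib.Helper92.M11Stmt

universe u

theorem arith : ∀ m ≤ 16, m ∣ 16 → ¬ 4 ∣ 9 * m → m = 1 ∨ m = 2 := by decide

theorem main : CentSyl3.{u} := by
  intro G _ _ _ hG P g hg
  have hP9 : Nat.card (P : Subgroup G) = 9 := Cfsg.Agent.Lib.Helper93.MUINVCOSET.card_syl3 hG P
  have habG := Cfsg.Agent.Lib.Helper93.MUINVCOSET.comm_syl3 hG P
  -- an element of order 3 of `P`
  obtain ⟨y0, hy0⟩ := exists_prime_orderOf_dvd_card' (G := ↥(P : Subgroup G)) 3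
    (by rw [hP9]; norm_num)
  have hy : orderOf (y0 : G) = 3 := by rw [Subgroup.orderOf_coe]; exact hy0
  have hy1 : (y0 : G) ≠ 1 := by
    intro h
    rw [h, orderOf_one] at hy
    omega
  have hgC : g ∈ Subgroup.centralizer ((P : Subgroup G) : Set G) := by
    rw [Subgroup.mem_centralizer_iff]
    intro h hh
    exact (hg h hh).symm
  have hPle : (P : Subgroup G) ≤ Subgroup.centralizer ((P : Subgroup G) : Set G) := by
    intro x hx
    rw [Subgroup.mem_centralizer_iff]
    intro h hh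
    exact habG h hh x hx
  have hCle : Subgroup.centralizer ((P : Subgroup G) : Set G) ≤
      Subgroup.centralizer ({(y0 : G)} : Set G) := by
    apply Subgroup.centralizer_le
    intro a ha
    rw [Set.mem_singleton_iff] at ha
    rw [ha]
    exact y0.2
  have hdiv : Nat.card (Subgroup.centralizer ({(y0 : G)} : Set G)) ∣ 144 :=
    Cfsg.Agent.Lib.Helper33.M11DIV.main G hG (y0 : G) hy1 (by rw [hy]; norm_num)
      (by rw [hy]; norm_num)
  have h4 : ¬ 4 ∣ Nat.card (Subgroup.centralizer ({(y0 : G)} : Set G)) :=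
    Cfsg.Agent.Lib.Helper92.M11Asm4.cent_three Cfsg.Agent.Lib.Helper92.M11EX.main
      Cfsg.Agent.Lib.Helper69.M11R11.main Cfsg.Agent.Lib.Helper69.M11R5.main
      Cfsg.Agent.Lib.Helper33.M11DIV.main Cfsg.Agent.Lib.Helper3.M11M4.main
      Cfsg.Agent.Lib.Helper59.M11I3.main hG (y0 : G) hy
  have hc144 : Nat.card (Subgroup.centralizer ((P : Subgroup G) : Set G)) ∣ 144 :=
    (Subgroup.card_dvd_of_le hCle).trans hdiv
  have hc4 : ¬ 4 ∣ Nat.card (Subgroup.centralizer ((P : Subgroup G) : Set G)) :=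
    fun h => h4 (h.trans (Subgroup.card_dvd_of_le hCle))
  have hc9 : 9 ∣ Nat.card (Subgroup.centralizer ((P : Subgroup G) : Set G)) := by
    rw [← hP9]; exact Subgroup.card_dvd_of_le hPle
  obtain ⟨m, hm⟩ := hc9
  have hm16 : m ∣ 16 := by
    have h1 : 9 * m ∣ 9 * 16 := by rw [← hm]; exact hc144
    exact (Nat.mul_dvd_mul_iff_left (by norm_num)).1 h1
  have hmle : m ≤ 16 := Nat.le_of_dvd (by norm_num) hm16
  rcases arith m hmle hm16 (by rw [← hm]; exact hc4) with h1 | h2
  · -- `C(P) = P`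
    have hcard : Nat.card (Subgroup.centralizer ((P : Subgroup G) : Set G)) ≤
        Nat.card (P : Subgroup G) := by rw [hm, h1, hP9]
    have heq := Subgroup.eq_of_le_of_card_ge hPle hcard
    rw [heq]; exact hgC
  · -- an involution centralizing `P`
    exfalso
    have h2' : 2 ∣ Nat.card (Subgroup.centralizer ((P : Subgroup G) : Set G)) := by
      rw [hm, h2]; norm_num
    obtain ⟨s0, hs0⟩ := exists_prime_orderOf_dvd_card'
      (G := ↥(Subgroup.centralizer ((P : Subgroup G) : Set G))) 2 h2'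
    have hs : orderOf (s0 : G) = 2 := by rw [Subgroup.orderOf_coe]; exact hs0
    have h48 : Nat.card (Subgroup.centralizer ({(s0 : G)} : Set G)) = 48 :=
      Cfsg.Agent.S0435.result ⟨inferInstance, hG⟩ (s0 : G) hs
    have hPs : (P : Subgroup G) ≤ Subgroup.centralizer ({(s0 : G)} : Set G) := by
      intro x hx
      rw [Subgroup.mem_centralizer_iff]
      intro h hh
      rw [Set.mem_singleton_iff] at hh
      rw [hh]
      exact ((Subgroup.mem_centralizer_iff.1 s0.2) x hx).symm
    have h9 := Subgroup.card_dvd_of_le hPs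
    rw [hP9, h48] at h9
    norm_num at h9

end Cfsg.Agent.Lib.Helper93.MUCENT3
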