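import Mathlib
import Cfsg.Agent.Lib.Helper68.M11UStmt
import Cfsg.Agent.Lib.Helper68.M11Syl5
import Cfsg.Agent.Lib.Helper92.M11EX

set_option autoImplicit false

/-! Piece FIX5 of S0420 (for helper68): in a simple group of order 7920 acting on the 11 cosets
of a subgroup of index 11, an element of order 5 fixes exactly one coset.

The number `f` of fixed cosets is `≡ 11 (mod 5)`, and by the Cauchy–Frobenius lemma
`|G| f = ∑_g Fix(g z g⁻¹) ≤ |C(z)| ∑_x Fix(x) = 5 |G|`. -/

namespace Cfsg.Agent.Lib.Helper93.MUFIX5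

open Cfsg Cfsg.Agent.Lib.Helper68.M11UStmt Cfsg.Agent.Lib.Helper92.M11Stmt

universe u

theorem main : Fix5.{u} := by
  intro G _ _ _ hG M hM z hz
  classical
  have hC5 : Nat.card (Subgroup.centralizer ({z} : Set G)) ≤ 5 := by
    have hnc : ¬ IsMulCommutative G :=
      Cfsg.Agent.Lib.Helper17.Sylow.not_comm_of_not_prime (by rw [hG]; norm_num)
    obtain ⟨D⟩ := Cfsg.Agent.Lib.Helper92.M11EX.main G hG
    have : Fact (Nat.Prime 5) := ⟨by norm_num⟩
    have hzp : IsPGroup 5 ↥(Subgroup.zpowers z) :=
      IsPGroup.of_card (n := 1) (by rw [Nat.card_zpowers, hz, pow_one])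
    obtain ⟨Q, hQ⟩ := hzp.exists_le_sylow
    obtain ⟨hQ5, hCQ, -⟩ := Cfsg.Agent.Lib.Helper68.M11Syl5.sylow5 hnc hG (D.a 0) (D.ha 0) Q
    have hQeq : Subgroup.zpowers z = (Q : Subgroup G) :=
      Subgroup.eq_of_le_of_card_ge hQ (by rw [hQ5, Nat.card_zpowers, hz])
    have hle : Subgroup.centralizer ({z} : Set G) ≤
        Subgroup.centralizer ((Q : Subgroup G) : Set G) := by
      intro g hg
      rw [Subgroup.mem_centralizer_iff] at hg ⊢
      intro h hh
      rw [SetLike.mem_coe, ← hQeq, Subgroup.mem_zpowers_iff] at hh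
      obtain ⟨k, rfl⟩ := hh
      have h1 : Commute z g := hg z rfl
      exact (h1.zpow_left k).eq
    calc Nat.card (Subgroup.centralizer ({z} : Set G))
        ≤ Nat.card (Subgroup.centralizer ((Q : Subgroup G) : Set G)) := Subgroup.card_le_of_le hle
      _ = 5 := hCQ
  have : Fact (Nat.Prime 5) := ⟨by norm_num⟩
  have hΩ : Nat.card (G ⧸ M) = 11 := by rw [← Subgroup.index_eq_card]; exact hM
  have hmod : Nat.card (G ⧸ M) ≡
      Nat.card (MulAction.fixedPoints (Subgroup.zpowers z) (G ⧸ M)) [MOD 5] :=
    IsPGroup.card_modEq_card_fixedPoints (p := 5) (G := ↥(Subgroup.zpowers z))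
      (IsPGroup.of_card (n := 1) (by rw [Nat.card_zpowers, hz, pow_one])) (G ⧸ M)
  have hfix : (MulAction.fixedPoints (Subgroup.zpowers z) (G ⧸ M)) =
      MulAction.fixedBy (G ⧸ M) z := by
    ext ω
    rw [MulAction.mem_fixedPoints, MulAction.mem_fixedBy]
    constructor
    · intro h; exact h ⟨z, Subgroup.mem_zpowers z⟩
    · rintro h ⟨g, hg⟩
      have h1 : Subgroup.zpowers z ≤ MulAction.stabilizer G ω := by
        rw [Subgroup.zpowers_le]; exact h
      exact h1 hg
  rw [hfix, hΩ] at hmod
  have hle : Nat.card (MulAction.fixedBy (G ⧸ M) z) ≤ 11 := by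
    rw [← hΩ]; exact Nat.card_le_card_of_injective _ Subtype.val_injective
  have hB : Nat.card (MulAction.fixedBy (G ⧸ M) z) ≤ 5 := by
    have : Fintype G := Fintype.ofFinite G
    have : ∀ a : G, Fintype (MulAction.fixedBy (G ⧸ M) a) := fun a => Fintype.ofFinite _
    have : Fintype (Quotient (MulAction.orbitRel G (G ⧸ M))) := Fintype.ofFinite _
    have hburn : ∑ x : G, Nat.card (MulAction.fixedBy (G ⧸ M) x) ≤ 7920 := by
      have h1 := MulAction.sum_card_fixedBy_eq_card_orbits_mul_card_group G (G ⧸ M)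
      have h2 : Fintype.card (Quotient (MulAction.orbitRel G (G ⧸ M))) ≤ 1 :=
        Fintype.card_le_one_iff_subsingleton.2
          ((MulAction.pretransitive_iff_subsingleton_quotient G (G ⧸ M)).1 inferInstance)
      have h3 : ∑ x : G, Nat.card (MulAction.fixedBy (G ⧸ M) x) =
          ∑ x : G, Fintype.card (MulAction.fixedBy (G ⧸ M) x) :=
        Finset.sum_congr rfl (fun x _ => Nat.card_eq_fintype_card)
      have hGc : Fintype.card G = 7920 := by rw [← Nat.card_eq_fintype_card]; exact hG
      rw [h3, h1, hGc]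
      calc Fintype.card (Quotient (MulAction.orbitRel G (G ⧸ M))) * 7920 ≤ 1 * 7920 :=
            Nat.mul_le_mul_right _ h2
        _ = 7920 := by norm_num
    have hconj : ∀ g : G, Nat.card (MulAction.fixedBy (G ⧸ M) (g * z * g⁻¹)) =
        Nat.card (MulAction.fixedBy (G ⧸ M) z) := by
      intro g
      apply Nat.card_congr
      refine Equiv.subtypeEquiv (MulAction.toPerm g⁻¹) (fun ω => ?_)
      simp only [MulAction.mem_fixedBy, MulAction.toPerm_apply]
      rw [mul_smul, mul_smul]
      constructor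
      · intro h
        have h1 := congrArg (fun a => g⁻¹ • a) h
        simpa using h1
      · intro h; rw [h]; simp
    have hsum : ∑ g : G, Nat.card (MulAction.fixedBy (G ⧸ M) (g * z * g⁻¹)) ≤
        Nat.card (Subgroup.centralizer ({z} : Set G)) *
          ∑ x : G, Nat.card (MulAction.fixedBy (G ⧸ M) x) := by
      rw [Finset.sum_comp (fun x : G => Nat.card (MulAction.fixedBy (G ⧸ M) x))
        (fun g : G => g * z * g⁻¹)]
      calc ∑ b ∈ Finset.univ.image (fun g : G => g * z * g⁻¹),
            (Finset.univ.filter (fun a : G => a * z * a⁻¹ = b)).card •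
              Nat.card (MulAction.fixedBy (G ⧸ M) b)
          ≤ ∑ b ∈ Finset.univ.image (fun g : G => g * z * g⁻¹),
              Nat.card (Subgroup.centralizer ({z} : Set G)) *
                Nat.card (MulAction.fixedBy (G ⧸ M) b) := by
            apply Finset.sum_le_sum
            intro b hb
            rw [smul_eq_mul]
            apply Nat.mul_le_mul_right
            obtain ⟨g₀, -, rfl⟩ := Finset.mem_image.1 hb
            have hcard : (Finset.univ.filter (fun a : G => a * z * a⁻¹ = g₀ * z * g₀⁻¹)).card =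
                Nat.card {a : G // a * z * a⁻¹ = g₀ * z * g₀⁻¹} := by
              rw [Nat.card_eq_fintype_card, Fintype.card_subtype]
            rw [hcard]
            refine Nat.card_le_card_of_injective
              (fun a : {a : G // a * z * a⁻¹ = g₀ * z * g₀⁻¹} =>
                (⟨g₀⁻¹ * a.1, ?_⟩ : ↥(Subgroup.centralizer ({z} : Set G)))) ?_
            · rw [Subgroup.mem_centralizer_iff]
              intro h hh
              rw [Set.mem_singleton_iff] at hh
              subst hh
              have h1 := a.2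
              calc h * (g₀⁻¹ * a.1) = g₀⁻¹ * (g₀ * h * g₀⁻¹) * a.1 := by group
                _ = g₀⁻¹ * (a.1 * h * (a.1)⁻¹) * a.1 := by rw [h1]
                _ = g₀⁻¹ * a.1 * h := by group
            · intro a a' h
              have h1 : g₀⁻¹ * a.1 = g₀⁻¹ * a'.1 := congrArg Subtype.val h
              exact Subtype.ext (mul_left_cancel h1)
        _ ≤ ∑ b : G, Nat.card (Subgroup.centralizer ({z} : Set G)) *
              Nat.card (MulAction.fixedBy (G ⧸ M) b) :=
            Finset.sum_le_sum_of_subset (Finset.subset_univ _)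
        _ = Nat.card (Subgroup.centralizer ({z} : Set G)) *
              ∑ x : G, Nat.card (MulAction.fixedBy (G ⧸ M) x) := (Finset.mul_sum _ _ _).symm
    have hconst : ∑ g : G, Nat.card (MulAction.fixedBy (G ⧸ M) (g * z * g⁻¹)) =
        7920 * Nat.card (MulAction.fixedBy (G ⧸ M) z) := by
      have hGc : Fintype.card G = 7920 := by rw [← Nat.card_eq_fintype_card]; exact hG
      rw [Finset.sum_congr rfl (fun g _ => hconj g), Finset.sum_const, Finset.card_univ,
        hGc, smul_eq_mul]
    rw [hconst] at hsum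
    have h5 : Nat.card (Subgroup.centralizer ({z} : Set G)) *
        ∑ x : G, Nat.card (MulAction.fixedBy (G ⧸ M) x) ≤ 5 * 7920 :=
      Nat.mul_le_mul hC5 hburn
    have h6 : 7920 * Nat.card (MulAction.fixedBy (G ⧸ M) z) ≤ 7920 * 5 := by
      calc 7920 * Nat.card (MulAction.fixedBy (G ⧸ M) z) ≤ 5 * 7920 := hsum.trans h5
        _ = 7920 * 5 := by norm_num
    exact Nat.le_of_mul_le_mul_left h6 (by norm_num)
  have hmod' : 11 % 5 = Nat.card (MulAction.fixedBy (G ⧸ M) z) % 5 := hmod
  omega

end Cfsg.Agent.Lib.Helper93.MUFIX5
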