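import Mathlib
import Cfsg.Agent.Lib.Helper85.PPStmt

set_option autoImplicit false

/-! Piece DINV of S5113: `δ` is constant on `F`-classes of elements. -/

namespace Cfsg.Agent.Lib.Helper93.PPDINV

open Cfsg Cfsg.FusionSystem Cfsg.Agent.Lib.Helper85.PPStmt

universe u v

theorem main (hKD : KeyDec.{u}) (hSH : StarHyp.{u}) : DegInv.{u, v} := by
  intro Ω _ S _ p _ hS F hsat A _ δ T hDD P φ hφ x
  obtain ⟨s, ψ, hψ, hφψ⟩ := hKD Ω S p hS F hsat P φ hφ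
  have hh := hSH Ω S F p P ψ hψ x
  have hhT : (x : Ω)⁻¹ * ψ x ∈ T := hDD.hyp hh
  have hhS : (x : Ω)⁻¹ * ψ x ∈ S := hDD.le hhT
  have hxS : (x : Ω) ∈ S := (F.le_of_mem hφ).1 x.2
  have hδh : δ ⟨(x : Ω)⁻¹ * ψ x, hhS⟩ = 1 := (hDD.ker _).2 hhT
  have heq : (⟨φ x, (F.le_of_mem hφ).2 x⟩ : S) =
      s * (⟨(x : Ω), hxS⟩ * ⟨(x : Ω)⁻¹ * ψ x, hhS⟩) * s⁻¹ := by
    apply Subtype.ext
    simp only [Subgroup.coe_mul, Subgroup.coe_inv]
    rw [hφψ x]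
    group
  rw [heq, map_mul, map_mul, map_mul, map_inv, hδh, mul_one, hDD.comm (δ s), mul_assoc,
    mul_inv_cancel, mul_one]

end Cfsg.Agent.Lib.Helper93.PPDINV
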