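import Mathlib
import Cfsg.Agent.Lib.Helper85.PPStmt

set_option autoImplicit false

/-! Piece PPI of S5113: the system of the maps `c_t ∘ Star` (`t ∈ U`) has `p`-power index. -/

namespace Cfsg.Agent.Lib.Helper93.PPPPI

open Cfsg Cfsg.FusionSystem Cfsg.Agent.Lib.Helper85.PPStmt

universe u

theorem main (hSM : StarMem.{u}) (hSO : StarOfResid.{u}) : SysPPI.{u} := by
  intro Ω _ S F p U hUS hhyp E hE
  refine ⟨?_, hhyp, ?_⟩
  · intro P φ hφ
    obtain ⟨hPU, t, htU, ψ, hψ, hφψ⟩ := (hE P φ).1 hφ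
    have hψF : ψ ∈ F.Hom P := hSM Ω S F p P ψ hψ
    have hψS : ∀ x : P, ψ x ∈ S := (F.le_of_mem hψF).2
    have hc : conjHom S (t : Ω) ∈ F.Hom S := F.conj_mem le_rfl t.2
    have hcomp := F.comp_mem hψF hc hψS
    have heq : (conjHom S (t : Ω)).comp (ψ.codRestrict S hψS) = φ := by
      ext x
      rw [hφψ x]
      simp [conjHom]
    rw [heq] at hcomp
    exact hcomp
  · intro P hPU
    rintro _ ⟨β, hβ, rfl⟩
    have hstar := hSO Ω S F p P (hPU.trans hUS) β hβ
    apply Subgroup.subset_closure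
    show P.subtype.comp ((F.autGroup P).subtype β).toMonoidHom ∈ E.Hom P
    refine (hE P _).2 ⟨hPU, 1, U.one_mem, _, hstar, ?_⟩
    intro x
    simp

end Cfsg.Agent.Lib.Helper93.PPPPI
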