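import Mathlib
import Cfsg.Agent.Lib.Helper85.PPStmt

set_option autoImplicit false

/-! Piece RC of S5113: rigidity passes along a map of `F` from `P` onto `Q`. -/

namespace Cfsg.Agent.Lib.Helper93.PPRC

open Cfsg Cfsg.FusionSystem Cfsg.Agent.Lib.Helper85.PPStmt

universe u v

/-- an injective homomorphism from `P` onto `Q` has an inverse homomorphism from `Q`. -/
theorem exists_inv_hom {Ω : Type u} [Group Ω] {P Q : Subgroup Ω} (f : P →* Ω)
    (hinj : Function.Injective f) (h : ∀ x : P, f x ∈ Q) (hsurj : ∀ y : Q, ∃ x : P, f x = (y : Ω)) :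
    ∃ g : Q →* Ω, (∀ x : P, g ⟨f x, h x⟩ = (x : Ω)) ∧ (∀ y : Q, g y ∈ P) ∧
      (∀ y : Q, ∀ hy : g y ∈ P, f ⟨g y, hy⟩ = (y : Ω)) := by
  have hbij : Function.Bijective (f.codRestrict Q h) := by
    constructor
    · intro a b hab
      apply hinj
      have := congrArg (fun z : Q => (z : Ω)) hab
      simpa using this
    · intro y
      obtain ⟨x, hx⟩ := hsurj y
      exact ⟨x, Subtype.ext (by simpa using hx)⟩
  let e : P ≃* Q := MulEquiv.ofBijective (f.codRestrict Q h) hbij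
  have he : ∀ x : P, e x = ⟨f x, h x⟩ := fun x => rfl
  refine ⟨P.subtype.comp e.symm.toMonoidHom, ?_, ?_, ?_⟩
  · intro x
    have : e.symm ⟨f x, h x⟩ = x := by rw [← he x]; exact e.symm_apply_apply x
    simp [this]
  · intro y
    simp
  · intro y hy
    have h1 : (⟨(P.subtype.comp e.symm.toMonoidHom) y, hy⟩ : P) = e.symm y := Subtype.ext (by simp)
    rw [h1]
    have h2 : e (e.symm y) = y := e.apply_symm_apply y
    have h3 := congrArg (fun z : Q => (z : Ω)) h2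
    simpa [he] using h3

/-- the conjugate `c_s ∘ φ ∘ c_s⁻¹` of a homomorphism, on the conjugate subgroup. -/
theorem exists_conj_hom {Ω : Type u} [Group Ω] {P : Subgroup Ω} (φ : P →* Ω) (s : Ω) :
    ∃ (P' : Subgroup Ω) (φ' : P' →* Ω) (hP' : ∀ x : P, s * (x : Ω) * s⁻¹ ∈ P'),
      (∀ y : P', s⁻¹ * (y : Ω) * s ∈ P) ∧
      (∀ x : P, φ' ⟨s * (x : Ω) * s⁻¹, hP' x⟩ = s * φ x * s⁻¹) := by
  have hback : ∀ y : (P.map (MulAut.conj s).toMonoidHom : Subgroup Ω), s⁻¹ * (y : Ω) * s ∈ P := by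
    rintro ⟨y, x, hx, rfl⟩
    have : s⁻¹ * ((MulAut.conj s).toMonoidHom x) * s = x := by
      simp [MulAut.conj_apply]; group
    rw [this]; exact hx
  let back : (P.map (MulAut.conj s).toMonoidHom : Subgroup Ω) →* P :=
    { toFun := fun y => ⟨s⁻¹ * (y : Ω) * s, hback y⟩
      map_one' := by apply Subtype.ext; simp
      map_mul' := by
        intro a b; apply Subtype.ext; simp only [Subgroup.coe_mul]; group }
  refine ⟨P.map (MulAut.conj s).toMonoidHom,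
    (MulAut.conj s).toMonoidHom.comp (φ.comp back), ?_, hback, ?_⟩
  · intro x
    exact ⟨x, x.2, by simp [MulAut.conj_apply]⟩
  · intro x
    have hb : back ⟨s * (x : Ω) * s⁻¹, ⟨x, x.2, by simp [MulAut.conj_apply]⟩⟩ = x := by
      apply Subtype.ext
      show s⁻¹ * (s * (x : Ω) * s⁻¹) * s = x
      group
    simp only [MonoidHom.comp_apply]
    rw [hb]
    simp [MulAut.conj_apply]

theorem main (hKD : KeyDec.{u}) (hSM : StarMem.{u}) (hSC : StarConj.{u}) (hSI : StarInv.{u}) :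
    RigidConj.{u, v} := by
  intro Ω _ S _ p _ hS F hsat A _ δ P Q φ hφ hφQ hsurj hrig u hu
  obtain ⟨s, ψ, hψ, hφψ⟩ := hKD Ω S p hS F hsat P φ hφ
  have hψF : ψ ∈ F.Hom P := hSM Ω S F p P ψ hψ
  have hψinj : Function.Injective ψ := F.injective_of_mem hψF
  -- u' = s⁻¹ u s
  set u' : S := s⁻¹ * u * s with hu'
  have hu'c : (u' : Ω) = (s : Ω)⁻¹ * (u : Ω) * (s : Ω) := by simp [hu']
  -- Q₀ = ψ.range
  have h1 : ∀ x : P, ψ x ∈ ψ.range := fun x => ⟨x, rfl⟩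
  -- conjHom Q₀ u' is Star
  have hstar0 : Star F p ψ.range (conjHom ψ.range (u' : Ω)) := by
    refine hSC Ω S F p Q ψ.range (conjHom Q (u : Ω)) (conjHom ψ.range (u' : Ω)) (s : Ω)⁻¹
      (S.inv_mem s.2) hu ?_ ?_ ?_
    · intro x
      obtain ⟨a, ha⟩ := hsurj x
      refine ⟨a, ?_⟩
      rw [← ha, hφψ a]; group
    · rintro ⟨y, a, rfl⟩
      have : (s : Ω)⁻¹⁻¹ * ψ a * (s : Ω)⁻¹ = φ a := by rw [hφψ a]; group
      show (s : Ω)⁻¹⁻¹ * ψ a * (s : Ω)⁻¹ ∈ Q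
      rw [this]; exact hφQ a
    · intro x
      simp only [conjHom, MonoidHom.comp_apply, Subgroup.coe_subtype, MulEquiv.coe_toMonoidHom,
        MulAut.conj_apply]
      rw [hu'c]; group
  -- inverse of ψ
  obtain ⟨ψi, hψi, hψiP, -⟩ := exists_inv_hom ψ hψinj h1 (by rintro ⟨y, a, rfl⟩; exact ⟨a, rfl⟩)
  have hψistar : Star F p ψ.range ψi :=
    hSI Ω S F p P ψ.range ψ ψi hψ h1 hψi (by rintro ⟨y, a, rfl⟩; exact ⟨a, rfl⟩)
  -- θ = c_{u'} ψi c_{u'}⁻¹ on Q₁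
  obtain ⟨Q₁, θ, hQ₁, hQ₁back, hθ⟩ := exists_conj_hom ψi (u' : Ω)
  have hθstar : Star F p Q₁ θ :=
    hSC Ω S F p ψ.range Q₁ ψi θ (u' : Ω) u'.2 hψistar hQ₁ hQ₁back hθ
  -- composite
  have hχ : Star F p P ((conjHom ψ.range (u' : Ω)).comp (ψ.codRestrict ψ.range h1)) :=
    Star.comp h1 hψ hstar0
  have h2 : ∀ x : P, ((conjHom ψ.range (u' : Ω)).comp (ψ.codRestrict ψ.range h1)) x ∈ Q₁ := by
    intro x
    have := hQ₁ ⟨ψ x, h1 x⟩
    simpa [conjHom, MulAut.conj_apply] using this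
  have hfin := Star.comp h2 hχ hθstar
  have heq : θ.comp (((conjHom ψ.range (u' : Ω)).comp (ψ.codRestrict ψ.range h1)).codRestrict Q₁ h2)
      = conjHom P (u' : Ω) := by
    ext x
    have hx := hθ ⟨ψ x, h1 x⟩
    have hx2 := hψi x
    simp only [MonoidHom.comp_apply]
    have : (((conjHom ψ.range (u' : Ω)).comp (ψ.codRestrict ψ.range h1)).codRestrict Q₁ h2) x
        = ⟨(u' : Ω) * ((⟨ψ x, h1 x⟩ : ψ.range) : Ω) * (u' : Ω)⁻¹, hQ₁ ⟨ψ x, h1 x⟩⟩ := by
      apply Subtype.ext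
      simp [conjHom, MulAut.conj_apply]
    rw [this, hx, hx2]
    simp [conjHom, MulAut.conj_apply]
  rw [heq] at hfin
  have hδ := hrig u' hfin
  rw [hu', map_mul, map_mul, map_inv] at hδ
  have : δ u = δ s * ((δ s)⁻¹ * δ u * δ s) * (δ s)⁻¹ := by group
  rw [this, hδ]; group

end Cfsg.Agent.Lib.Helper93.PPRC
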