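import Mathlib
import Cfsg.Agent.Lib.Helper85.PPStmt
import Cfsg.Agent.Lib.Helper93.PPRC

set_option autoImplicit false

/-! Piece RD of S5113: on a rigid subgroup the degree `δ s` of `φ = c_s ∘ Star` is well defined. -/

namespace Cfsg.Agent.Lib.Helper93.PPRD

open Cfsg Cfsg.FusionSystem Cfsg.Agent.Lib.Helper85.PPStmt

universe u v

theorem main (hSM : StarMem.{u}) (hSI : StarInv.{u}) (hRC : RigidConj.{u, v}) :
    RigidDeg.{u, v} := by
  intro Ω _ S _ p _ hS F hsat A _ δ P φ s s' hrig hdec hdec'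
  obtain ⟨ψ, hψ, hφψ⟩ := hdec
  obtain ⟨ψ', hψ', hφψ'⟩ := hdec'
  have hψ'F : ψ' ∈ F.Hom P := hSM Ω S F p P ψ' hψ'
  have hψ'inj : Function.Injective ψ' := F.injective_of_mem hψ'F
  have h1 : ∀ x : P, ψ' x ∈ ψ'.range := fun x => ⟨x, rfl⟩
  have hsurj : ∀ y : ψ'.range, ∃ x : P, ψ' x = (y : Ω) := by
    rintro ⟨y, a, rfl⟩; exact ⟨a, rfl⟩
  -- ψ'.range is rigid
  have hrig' : Rigid F p δ ψ'.range :=
    hRC Ω S p hS F hsat A δ P ψ'.range ψ' hψ'F h1 hsurj hrig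
  -- inverse of ψ'
  obtain ⟨ψi, hψi, hψiP, -⟩ := Cfsg.Agent.Lib.Helper93.PPRC.exists_inv_hom ψ' hψ'inj h1 hsurj
  have hψistar : Star F p ψ'.range ψi :=
    hSI Ω S F p P ψ'.range ψ' ψi hψ' h1 hψi hsurj
  have hcomp := Star.comp hψiP hψistar hψ
  -- w = s⁻¹ s'
  set w : S := s⁻¹ * s' with hw
  have hwc : (w : Ω) = (s : Ω)⁻¹ * (s' : Ω) := by simp [hw]
  have heq : ψ.comp (ψi.codRestrict P hψiP) = conjHom ψ'.range (w : Ω) := by
    ext y
    obtain ⟨a, ha⟩ := hsurj y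
    have hy : y = ⟨ψ' a, h1 a⟩ := Subtype.ext ha.symm
    have h3 : (ψi.codRestrict P hψiP) y = a := by
      apply Subtype.ext
      rw [hy]
      simpa using hψi a
    simp only [MonoidHom.comp_apply]
    rw [h3]
    have h4 : ψ a = (s : Ω)⁻¹ * (s' : Ω) * ψ' a * ((s : Ω)⁻¹ * (s' : Ω))⁻¹ := by
      have e1 := hφψ a
      have e2 := hφψ' a
      have : ψ a = (s : Ω)⁻¹ * φ a * (s : Ω) := by rw [e1]; group
      rw [this, e2]; group
    rw [h4, hy, hwc]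
    simp only [conjHom, MonoidHom.comp_apply, Subgroup.coe_subtype, MulEquiv.coe_toMonoidHom,
      MulAut.conj_apply]
  rw [heq] at hcomp
  have hδ := hrig' w hcomp
  rw [hw, map_mul, map_inv] at hδ
  have : δ s' = δ s * ((δ s)⁻¹ * δ s') := by group
  rw [this, hδ, mul_one]

end Cfsg.Agent.Lib.Helper93.PPRD
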