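import Cfsg.Agent.Lib.Helper88.ORStmt
import Cfsg.Agent.S5243
import Cfsg.Agent.S5140
import Cfsg.Agent.S5141

/-!
# S5202 / S5201 piece QSTEP (helper93): the `p'`-step (assembly)

If `Aut_{F'}(T) ≤ Γ` nothing is to be done; otherwise S5243 applied to the quotient map
`Aut_{F'}(T) → Aut_{F'}(T) / (Γ ∩ Aut_{F'}(T))` gives the next system `F''` over the same `S'`.
-/

set_option autoImplicit false

namespace Cfsg.Agent.Lib.Helper93.ORQSTEP

open Cfsg Cfsg.FusionSystem Cfsg.Agent.Lib.Helper88.ORStmt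

universe u

/-- The automorphism groups grow with the system. -/
theorem autGroup_mono {Ω : Type u} [Group Ω] {A B : Subgroup Ω} (X : FusionSystem A)
    (Y : FusionSystem B) (h : X.IsSubsystemOf Y) (P : Subgroup Ω) :
    X.autGroup P ≤ Y.autGroup P :=
  Subgroup.closure_mono (fun _ hα => h P hα)

/-- Two restrictions to `T` of the same automorphism of `S'` are equal. -/
theorem resOf_unique {Ω : Type u} [Group Ω] {T S' : Subgroup Ω} (hTS' : T ≤ S')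
    {g g' : MulAut T} {a : MulAut S'} (h : ResOf hTS' g a) (h' : ResOf hTS' g' a) : g = g' := by
  apply MulEquiv.ext
  intro t
  apply Subtype.ext
  rw [h t, h' t]

/-- The restriction of a conjugate is the conjugate of the restrictions. -/
theorem resOf_conj {Ω : Type u} [Group Ω] {T S' : Subgroup Ω} (hTS' : T ≤ S')
    {g b g' : MulAut T} {α a : MulAut S'} (hg : ResOf hTS' g α) (hb : ResOf hTS' b a)
    (hg' : ResOf hTS' g' (α * a * α⁻¹)) : g' = g * b * g⁻¹ := by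
  apply MulEquiv.ext
  intro t
  apply Subtype.ext
  rw [hg' t]
  have h0 : α ⟨((g⁻¹ t : T) : Ω), hTS' (g⁻¹ t).2⟩ = ⟨(t : Ω), hTS' t.2⟩ :=
    Subtype.ext (by rw [← hg (g⁻¹ t), MulAut.apply_inv_self])
  have h1 : α⁻¹ ⟨(t : Ω), hTS' t.2⟩ = ⟨((g⁻¹ t : T) : Ω), hTS' (g⁻¹ t).2⟩ := by
    rw [← h0, MulAut.inv_apply_self]
  have h2 : a ⟨((g⁻¹ t : T) : Ω), hTS' (g⁻¹ t).2⟩
      = ⟨((b (g⁻¹ t) : T) : Ω), hTS' (b (g⁻¹ t)).2⟩ :=
    Subtype.ext (hb (g⁻¹ t)).symm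
  rw [MulAut.mul_apply, MulAut.mul_apply, h1, h2, ← hg (b (g⁻¹ t))]
  rfl

theorem main (hINVQ : InvPPrime.{u}) (hAUTN : AutNormal.{u}) (hRES : ResAutT.{u})
    (hWNT : WNTrans.{u}) (hNT : NormalTrans.{u}) (hINVE : InvSub.{u}) (hEXTQ : ExtQStep.{u})
    (hAUTQ : AutQStep.{u}) (hRLN : RLNormal.{u}) (hRLEX : RLEx.{u}) (hCOP : CoprimeIdx.{u}) :
    QStep.{u} := by
  intro Ω _ S _ p _ hS F hF T E hE S' F' hInter Γ hNorm hEΓ hΓ'
  by_cases hcase : F'.autGroup T ≤ Γ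
  · exact ⟨S', F', hInter, hcase⟩
  obtain ⟨hF'F, hEF', hTC, hRL⟩ := hInter
  have hF'sat : F'.IsSaturated p := hF'F.1.1
  have hF'inv : F'.IsInvariantIn F := hF'F.1.2.2
  have hF'sub : F'.IsSubsystemOf F := hF'inv.1
  have hS'cl : F.StronglyClosed S' := hF'inv.2.1
  have hS'S : S' ≤ S := hS'cl.1
  have hEsat : E.IsSaturated p := hE.1.1
  have hTcl : F.StronglyClosed T := hE.1.2.2.2.1
  have hTcl' : F'.StronglyClosed T := hEF'.1.2.2.2.1
  have hTS' : T ≤ S' := hTcl'.1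
  have hfinS' : Finite S' :=
    Finite.of_injective (Subgroup.inclusion hS'S) (Subgroup.inclusion_injective hS'S)
  have hS'p : IsPGroup p S' := hS.to_le hS'S
  have hfinT : Finite T :=
    Finite.of_injective (Subgroup.inclusion hTS') (Subgroup.inclusion_injective hTS')
  have hΓ'F : F'.autGroup T ≤ F.autGroup T := autGroup_mono F' F hF'sub T
  have hKn : (Γ.subgroupOf (F'.autGroup T)).Normal := by
    refine ⟨fun n hn g => ?_⟩
    rw [Subgroup.mem_subgroupOf] at hn ⊢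
    exact hNorm (g : MulAut T) (hΓ'F g.2) (n : MulAut T) hn
  have hΔcop : (Nat.card (↥(F'.autGroup T) ⧸ Γ.subgroupOf (F'.autGroup T))).Coprime p := by
    apply hCOP p (Γ.subgroupOf (F'.autGroup T))
    rintro x ⟨k, hk⟩
    rw [Subgroup.mem_subgroupOf]
    exact hΓ' (x : MulAut T) x.2 ⟨k, by rw [Subgroup.orderOf_coe]; exact hk⟩
  have hΔnt : Nontrivial (↥(F'.autGroup T) ⧸ Γ.subgroupOf (F'.autGroup T)) := by
    obtain ⟨β, hβ, hβΓ⟩ := SetLike.not_le_iff_exists.1 hcase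
    refine ⟨⟨((⟨β, hβ⟩ : F'.autGroup T) : _ ⧸ _), 1, fun h => hβΓ ?_⟩⟩
    have h' := (QuotientGroup.eq_one_iff _).1 h
    exact Subgroup.mem_subgroupOf.1 h'
  obtain ⟨F'', hF''F', -, hEsub, hd, he⟩ :=
    Cfsg.Agent.S5243.result p hS'p F' hF'sat hTS' E hEF' hΔcop
      (QuotientGroup.mk' (Γ.subgroupOf (F'.autGroup T))) (QuotientGroup.mk'_surjective _)
      (by
        rw [QuotientGroup.ker_mk']
        intro x hx
        rw [Subgroup.mem_subgroupOf] at hx ⊢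
        exact hEΓ hx)
  -- membership in `Aut_{F''}(S')`
  have hd' : ∀ α : MulAut S', α ∈ F''.autGroup S' ↔
      α ∈ F'.autGroup S' ∧ ∃ g ∈ Γ, ResOf hTS' g α := by
    intro α
    rw [hd α]
    constructor
    · rintro ⟨h1, β, hβ, hres⟩
      refine ⟨h1, (β : MulAut T), ?_, hres⟩
      have h' := (QuotientGroup.eq_one_iff _).1 hβ
      exact Subgroup.mem_subgroupOf.1 h'
    · rintro ⟨h1, g, hg, hres⟩
      obtain ⟨g₀, hg₀, hres₀⟩ := hRES F' T S' hTS' hTcl' le_rfl α h1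
      have e : g₀ = g := resOf_unique hTS' hres₀ hres
      subst e
      exact ⟨h1, ⟨g₀, hg₀⟩, (QuotientGroup.eq_one_iff _).2 (Subgroup.mem_subgroupOf.2 hg), hres⟩
  have hF''sat : F''.IsSaturated p := hF''F'.1.1
  have hF''sub' : F''.IsSubsystemOf F' := hF''F'.1.2.2.1
  obtain ⟨R, hR⟩ := Cfsg.Agent.S5140.result p hS'p F' hF'sat
  have hRsub : R.IsSubsystemOf F'' := he R hR
  have hF''idx : F''.HasPrimeToPIndexIn F' p :=
    ⟨hF''sub', fun P hP => (hR.2.1.2 P hP).trans (autGroup_mono R F'' hRsub P)⟩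
  have hRF : R.IsNormalIn F p := Cfsg.Agent.S5141.result p hS F hF F' hF'F.1 R hR
  have hRinv : Cfsg.Agent.H85.InvCond R F := hRF.1.2.2.2.2.1
  have hnorm'' : ∀ α ∈ F.autGroup S', ∀ a ∈ F''.autGroup S',
      α * a * α⁻¹ ∈ F''.autGroup S' := by
    intro α hα a ha
    obtain ⟨ha', b, hb, hresb⟩ := (hd' a).1 ha
    have h1 : α * a * α⁻¹ ∈ F'.autGroup S' := hAUTN p hS F hF F' hF'F α hα a ha'
    obtain ⟨g, hg, hresg⟩ := hRES F T S' hTS' hTcl hS'S α hα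
    obtain ⟨g', hg', hresg'⟩ := hRES F' T S' hTS' hTcl' le_rfl (α * a * α⁻¹) h1
    have e : g' = g * b * g⁻¹ := resOf_conj hTS' hresg hresb hresg'
    exact (hd' _).2 ⟨h1, g', e ▸ hNorm g hg b hb, hresg'⟩
  have hInv : Cfsg.Agent.H85.InvCond F'' F :=
    hINVQ p hS F hF F' F'' R hF'sub hF''sat hF''sub' hRsub hR.2.1 hRinv hnorm''
  have hWN : F''.IsWeaklyNormalIn F p := hWNT p hS F hF F' F'' hF'F hF''F' hS'cl hInv
  have hcent : centralizerIn S S' ≤ S' := by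
    intro c hc
    have h1 := Subgroup.mem_inf.1 hc
    exact hTC (Subgroup.mem_sup_right
      (Subgroup.mem_inf.2 ⟨h1.1, Subgroup.centralizer_le hTS' h1.2⟩))
  have hF''F : F''.IsNormalIn F p := hNT p F F' F'' hF'sub hWN hF''F' hcent
  have hAut : F''.autGroup T ≤ Γ :=
    hAUTQ p hS'p F' hF'sat T hTS' F'' Γ hTcl' hF''sat hF''sub' hΓ'
      (fun a ha => ((hd' a).1 ha).2)
  have hExt : ExtCl E F'' :=
    hEXTQ p hS'p F' hF'sat E hTS' F'' Γ hEF' hF''sat hF''sub' hF''idx hEΓ hAut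
      (fun a ha g hg hres => (hd' a).2 ⟨ha, g, hg, hres⟩)
  have hEF'' : E.IsNormalIn F'' p :=
    ⟨⟨hEsat, hF''sat, hINVE p hS'p F' hF'sat E F'' hEF' hF''sat hF''sub' hEsub⟩, hExt⟩
  have hRL'' : RLSame p F'' F := by
    intro U V Xinf Yinf hX hY P
    obtain ⟨U', L, hL⟩ := hRLEX p hS'p F' hF'sat
    have h1 := hRLN p hS'p F' hF'sat F'' hF''F' Xinf L hX hL P
    have h2 := hRL L Yinf hL hY P
    exact h1.trans h2
  exact ⟨S', F'', ⟨hF''F, hEF'', hTC, hRL''⟩, hAut⟩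

end Cfsg.Agent.Lib.Helper93.ORQSTEP
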