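import Mathlib
import Cfsg.Agent.Lib.Helper44.BCStmt

/-!
# S2362, piece SIGNODD

An isometry `g` with `g ^ (2 ^ (a+1)) = 1`, `g ^ (2 ^ a) = -1`, acting on a set `{Q = 1}` of size
an odd multiple of `2 ^ (a+1)`, is an odd permutation of that set, hence not in `Ω` (the sign
character is trivial on the commutator subgroup).
-/

set_option autoImplicit false

namespace Cfsg.Agent.Lib.Helper93.BCSIGNODD

open Matrix Polynomial Module QuadraticMap
open Cfsg.Agent.Lib.Helper44.QSpace Cfsg.Agent.Lib.Helper44.OGroup Cfsg.Agent.Lib.Helper44.OMat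
open Cfsg.Agent.Lib.Helper44.OExt Cfsg.Agent.Lib.Helper44.Spinor
open Cfsg.Agent.Lib.Helper44.BCStmt

universe u

theorem main : Cfsg.Agent.Lib.Helper43.SPStmt.SignP.{u} → SignOdd.{u} := by
  intro hSg F _ _ κ _ _ Q h2 g a hg hga hdvd hodd hmem
  classical
  have hcomm : isoEquiv Q g ∈ commutator ↥(O Q) := (mem_omega_iff Q g).mp hmem
  have hker : signChar Q (isoEquiv Q g) = 1 :=
    MonoidHom.mem_ker.mp (Abelianization.commutator_subset_ker (signChar Q) hcomm)
  haveI : Finite (κ → F) := Module.finite_of_finite F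
  letI : Fintype {x : κ → F // Q x = 1} := Fintype.ofFinite _
  letI : DecidableEq {x : κ → F // Q x = 1} := Classical.decEq _
  have hsign : signChar Q (isoEquiv Q g) = Equiv.Perm.sign (permHom Q 1 (isoEquiv Q g)) := rfl
  have hneg : Equiv.Perm.sign (permHom Q 1 (isoEquiv Q g)) = -1 := by
    apply hSg {x : κ → F // Q x = 1} (permHom Q 1 (isoEquiv Q g)) a
    · rw [← map_pow, ← map_pow, hg, map_one, map_one]
    · intro x hx
      rw [← map_pow, ← map_pow] at hx
      have h3 := congrArg Subtype.val hx
      rw [permHom_apply] at h3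
      have h4 : ((isoEquiv Q (g ^ (2 ^ a)) : ↥(O Q)) : (κ → F) ≃ₗ[F] (κ → F)) (x : κ → F)
          = -(x : κ → F) := by
        rw [isoEquiv_apply, hga, Matrix.neg_mulVec, Matrix.one_mulVec]
      rw [h4] at h3
      have h5 : (2 : F) • (x : κ → F) = 0 := by
        rw [two_smul]
        nth_rewrite 1 [← h3]
        exact neg_add_cancel _
      rcases smul_eq_zero.mp h5 with h | h
      · exact h2 h
      · have h6 := x.2
        rw [h, map_zero] at h6
        exact zero_ne_one h6
    · rw [Fintype.card_eq_nat_card]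
      exact hdvd
    · rw [Fintype.card_eq_nat_card]
      exact hodd
  rw [hsign, hneg] at hker
  exact absurd hker (by decide)

end Cfsg.Agent.Lib.Helper93.BCSIGNODD
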