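import Mathlib
import Cfsg.Agent.Lib.Helper44.BCStmt
import Cfsg.Agent.Lib.Helper44.Omega2

/-!
# S2362, piece TRANSFER

If `s` is the extension by the identity of an isometry `s₂` of the second block and `s ∈ Ω`, then
`s₂ ∈ Ω`: write `s₂` as a product of reflections (Cartan–Dieudonné), transport the reflections
to the big space and compare the two spinor norm criteria.
-/

set_option autoImplicit false

namespace Cfsg.Agent.Lib.Helper93.BCTRANSFER

open Matrix Polynomial Module QuadraticMap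
open Cfsg.Agent.Lib.Helper44.QSpace Cfsg.Agent.Lib.Helper44.OGroup Cfsg.Agent.Lib.Helper44.OMat
open Cfsg.Agent.Lib.Helper44.OExt Cfsg.Agent.Lib.Helper44.Spinor Cfsg.Agent.Lib.Helper44.Omega2
open Cfsg.Agent.Lib.Helper44.BCStmt

universe u

variable {F : Type u} [Field F] {ι ι₁ ι₂ : Type} [Fintype ι] [DecidableEq ι]
  [Fintype ι₁] [DecidableEq ι₁] [Fintype ι₂] [DecidableEq ι₂]

/-- A reflection in a vector of the second block, in block coordinates. -/
theorem refl_transport₂ (Q : QuadraticForm F (ι → F)) (N₁ : Matrix ι₁ ι₁ F) (N₂ : Matrix ι₂ ι₂ F)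
    (J : (ι₁ ⊕ ι₂ → F) ≃ₗ[F] (ι → F))
    (hJ : ∀ u : ι₁ ⊕ ι₂ → F, Q (J u) = qN N₁ (u ∘ Sum.inl) + qN N₂ (u ∘ Sum.inr))
    (v : ι₂ → F) (u : ι₁ ⊕ ι₂ → F) :
    reflE Q (J (Sum.elim (0 : ι₁ → F) v)) (J u)
      = J (Sum.elim (u ∘ Sum.inl) (reflE (qN N₂) v (u ∘ Sum.inr))) := by
  have hQv : Q (J (Sum.elim (0 : ι₁ → F) v)) = qN N₂ v := by
    rw [hJ, Sum.elim_comp_inl, Sum.elim_comp_inr, map_zero, zero_add]
  have hpol : QuadraticMap.polar Q (J u) (J (Sum.elim (0 : ι₁ → F) v))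
      = QuadraticMap.polar (qN N₂) (u ∘ Sum.inr) v := by
    unfold QuadraticMap.polar
    rw [← map_add, hJ, hJ, hQv]
    have h1 : (u + Sum.elim (0 : ι₁ → F) v) ∘ Sum.inl = u ∘ Sum.inl := by
      funext i; simp
    have h2 : (u + Sum.elim (0 : ι₁ → F) v) ∘ Sum.inr = u ∘ Sum.inr + v := by
      funext i; simp
    rw [h1, h2]
    ring
  rw [reflE_apply, reflE_apply, hQv, hpol]
  have h3 : Sum.elim (u ∘ Sum.inl)
      (u ∘ Sum.inr - ((qN N₂ v)⁻¹ * QuadraticMap.polar (qN N₂) (u ∘ Sum.inr) v) • v)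
      = u - ((qN N₂ v)⁻¹ * QuadraticMap.polar (qN N₂) (u ∘ Sum.inr) v)
          • Sum.elim (0 : ι₁ → F) v := by
    funext i
    rcases i with i | i <;> simp
  rw [h3, map_sub, map_smul]

/-- A product of reflections in vectors of the second block, in block coordinates. -/
theorem prod_transport₂ (Q : QuadraticForm F (ι → F)) (N₁ : Matrix ι₁ ι₁ F) (N₂ : Matrix ι₂ ι₂ F)
    (J : (ι₁ ⊕ ι₂ → F) ≃ₗ[F] (ι → F))
    (hJ : ∀ u : ι₁ ⊕ ι₂ → F, Q (J u) = qN N₁ (u ∘ Sum.inl) + qN N₂ (u ∘ Sum.inr))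
    (vs₂ : List (ι₂ → F)) (u : ι₁ ⊕ ι₂ → F) :
    ((vs₂.map (fun v => J (Sum.elim (0 : ι₁ → F) v))).map (reflE Q)).prod (J u)
      = J (Sum.elim (u ∘ Sum.inl) ((vs₂.map (reflE (qN N₂))).prod (u ∘ Sum.inr))) := by
  induction vs₂ generalizing u with
  | nil =>
    simp only [List.map_nil, List.prod_nil, LinearEquiv.coe_one, id_eq]
    rw [Sum.elim_comp_inl_inr]
  | cons v vs ih =>
    rw [List.map_cons, List.map_cons, List.prod_cons, List.map_cons, List.prod_cons,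
      LinearEquiv.mul_apply, ih, refl_transport₂ Q N₁ N₂ J hJ, Sum.elim_comp_inl,
      Sum.elim_comp_inr, LinearEquiv.mul_apply]

theorem main : Transfer.{u} := by
  intro F _ _ ι _ _ Q h2 hS k₁ k₂ N₁ N₂ J hdet hk₂ hJ s s₂ hs hmem
  classical
  have hS₂ : Sep (qN N₂) := sep_qN hdet
  obtain ⟨vs₂, hvs₂, hprod⟩ := cdp_of_two_ne_zero h2 hS₂
    ((isoEquiv (qN N₂) s₂ : ↥(O (qN N₂))) : (Fin k₂ → F) ≃ₗ[F] (Fin k₂ → F))
    (isoEquiv (qN N₂) s₂).2
  have hs₂ : ∀ x, ((s₂ : GL (Fin k₂) F) : Matrix (Fin k₂) (Fin k₂) F) *ᵥ x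
      = (vs₂.map (reflE (qN N₂))).prod x := by
    intro x
    rw [← hprod, isoEquiv_apply]
  have hQv : ∀ v : Fin k₂ → F, Q (J (Sum.elim (0 : Fin k₁ → F) v)) = qN N₂ v := by
    intro v
    rw [hJ, Sum.elim_comp_inl, Sum.elim_comp_inr, map_zero, zero_add]
  have hvs : ∀ w ∈ vs₂.map (fun v => J (Sum.elim (0 : Fin k₁ → F) v)), Q w ≠ 0 := by
    intro w hw
    obtain ⟨v, hv, rfl⟩ := List.mem_map.mp hw
    rw [hQv]
    exact hvs₂ v hv
  have hsx : ∀ x, ((s : GL ι F) : Matrix ι ι F) *ᵥ x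
      = ((vs₂.map (fun v => J (Sum.elim (0 : Fin k₁ → F) v))).map (reflE Q)).prod x := by
    intro x
    obtain ⟨u, rfl⟩ := J.surjective x
    rw [hs u, prod_transport₂ Q N₁ N₂ J hJ, hs₂]
  have hcard : 2 ≤ Fintype.card ι := by
    have h1 := LinearEquiv.finrank_eq J
    rw [Module.finrank_fintype_fun_eq_card, Module.finrank_fintype_fun_eq_card, Fintype.card_sum,
      Fintype.card_fin, Fintype.card_fin] at h1
    omega
  have h1 := (mem_omega_iff_of_mulVec h2 Q hS hcard s _ hvs hsx).mp hmem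
  rw [mem_omega_iff_of_mulVec h2 (qN N₂) hS₂ (by rw [Fintype.card_fin]; exact hk₂) s₂ vs₂ hvs₂
    hs₂]
  refine ⟨?_, ?_⟩
  · have h3 := h1.1
    rwa [List.length_map] at h3
  · have h3 := h1.2
    rw [List.map_map] at h3
    have e : vs₂.map ((fun v => Q v) ∘ (fun v => J (Sum.elim (0 : Fin k₁ → F) v)))
        = vs₂.map (fun v => qN N₂ v) := by
      apply List.map_congr_left
      intro v _
      exact hQv v
    rw [e] at h3
    exact h3

end Cfsg.Agent.Lib.Helper93.BCTRANSFER
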