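import Mathlib
import Cfsg.Agent.Lib.Helper76.BrRBStmt

/-!
# S4504, piece FUS: fusion in a Sylow subgroup of prime order

If `P` has order `p`, `|N_L(P) : C_L(P)| = (p - 1) / 2` and `n x n⁻¹ = x ^ k` for some
`x ∈ P`, `x ≠ 1`, then `k` is a square modulo `p`: `n` normalizes `P`, the power
`n ^ ((p - 1) / 2)` centralizes `P`, hence `k ^ ((p - 1) / 2) = 1` in `ZMod p` and Euler's
criterion applies.
-/

set_option autoImplicit false

namespace Cfsg.Agent.Lib.Helper93.BrRBFUS

universe u

/-- iterated conjugation -/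
theorem conj_pow_iter {L : Type u} [Group L] (x n : L) (k : ℕ) (h : n * x * n⁻¹ = x ^ k)
    (j : ℕ) : n ^ j * x * (n ^ j)⁻¹ = x ^ (k ^ j) := by
  induction j with
  | zero => simp
  | succ j ih =>
    have e1 : n ^ (j + 1) * x * (n ^ (j + 1))⁻¹ = n * (n ^ j * x * (n ^ j)⁻¹) * n⁻¹ := by
      rw [pow_succ']
      group
    rw [e1, ih, ← conj_pow, h, ← pow_mul, pow_succ']

/-- **Piece FUS of S4504**: fusion in a Sylow subgroup of prime order with `|N : C| = (p - 1) / 2`. -/
theorem main : Cfsg.Agent.Lib.Helper76.BrRB.FUS.{u} := by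
  intro L _ _ p _ P hP he x n k hx hx1 hconj
  classical
  have hp : p.Prime := Fact.out
  have hox : orderOf x = p := by
    have h1 : orderOf x ∣ p := hP ▸ (P : Subgroup L).orderOf_dvd_natCard hx
    rcases (Nat.dvd_prime hp).mp h1 with h | h
    · exact absurd (orderOf_eq_one_iff.mp h) hx1
    · exact h
  have hPz : Subgroup.zpowers x = (P : Subgroup L) := by
    apply Subgroup.eq_of_le_of_card_ge (Subgroup.zpowers_le.mpr hx)
    rw [Nat.card_zpowers, hox, hP]
  have hxk1 : x ^ k ≠ 1 := by
    intro h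
    rw [h] at hconj
    apply hx1
    have : x = n⁻¹ * (n * x * n⁻¹) * n := by group
    rw [this, hconj]
    group
  have hpk : ¬ p ∣ k := by
    intro h
    apply hxk1
    rw [← hox] at h
    exact orderOf_dvd_iff_pow_eq_one.mp h
  have hcop : Nat.Coprime k (orderOf x) := by
    rw [hox]
    exact ((Nat.Prime.coprime_iff_not_dvd hp).mpr hpk).symm
  obtain ⟨m, hm⟩ := exists_pow_eq_self_of_coprime hcop
  have hinv : n⁻¹ * x * n = x ^ m := by
    have h1 : n⁻¹ * (x ^ k) ^ m * n = (n⁻¹ * x ^ k * n) ^ m := by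
      have := conj_pow (a := n⁻¹) (b := x ^ k) (i := m)
      rw [inv_inv] at this
      exact this.symm
    have h2 : n⁻¹ * x ^ k * n = x := by
      rw [← hconj]
      group
    rw [h2] at h1
    rw [← h1, hm]
  have hn : n ∈ Subgroup.normalizer ((P : Subgroup L) : Set L) := by
    rw [Subgroup.mem_normalizer_iff]
    intro h
    constructor
    · intro hh
      rw [← hPz] at hh ⊢
      obtain ⟨j, rfl⟩ := Subgroup.mem_zpowers_iff.mp hh
      rw [← conj_zpow, hconj]
      exact Subgroup.zpow_mem _ (Subgroup.pow_mem _ (Subgroup.mem_zpowers x) k) j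
    · intro hh
      rw [← hPz] at hh ⊢
      obtain ⟨j, hj⟩ := Subgroup.mem_zpowers_iff.mp hh
      have e1 : h = (n⁻¹ * x * n) ^ j := by
        have := conj_zpow (a := n⁻¹) (b := x) (i := j)
        rw [inv_inv] at this
        rw [this, hj]
        group
      rw [e1, hinv]
      exact Subgroup.zpow_mem _ (Subgroup.pow_mem _ (Subgroup.mem_zpowers x) m) j
  obtain ⟨e, hedef⟩ : ∃ e : ℕ, e = (Subgroup.centralizer ((P : Subgroup L) : Set L)).relIndex
        (Subgroup.normalizer ((P : Subgroup L) : Set L)) := ⟨_, rfl⟩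
  rw [← hedef] at he
  have hnorm : ((Subgroup.centralizer ((P : Subgroup L) : Set L)).subgroupOf
      (Subgroup.normalizer ((P : Subgroup L) : Set L))).Normal := by
    rw [← Subgroup.normalizerMonoidHom_ker]
    exact MonoidHom.normal_ker _
  have hmem : (⟨n, hn⟩ : ↥(Subgroup.normalizer ((P : Subgroup L) : Set L))) ^ e ∈
      (Subgroup.centralizer ((P : Subgroup L) : Set L)).subgroupOf
        (Subgroup.normalizer ((P : Subgroup L) : Set L)) := by
    rw [hedef]
    exact Subgroup.pow_index_mem _ _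
  rw [Subgroup.mem_subgroupOf] at hmem
  have hmem' : n ^ e ∈ Subgroup.centralizer ((P : Subgroup L) : Set L) := by
    simpa using hmem
  have hcomm : x * n ^ e = n ^ e * x := Subgroup.mem_centralizer_iff.mp hmem' x hx
  have hiter := conj_pow_iter x n k hconj e
  have hx' : x ^ (k ^ e) = x ^ 1 := by
    rw [← hiter, ← hcomm, pow_one]
    group
  have hmod : k ^ e ≡ 1 [MOD p] := by
    rw [← hox]
    exact pow_eq_pow_iff_modEq.mp hx'
  have hz : ((k : ℕ) : ZMod p) ^ e = 1 := by
    have := (ZMod.natCast_eq_natCast_iff _ _ _).mpr hmod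
    push_cast at this
    exact this
  by_cases hk0 : ((k : ℕ) : ZMod p) = 0
  · rw [hk0]
    exact ⟨0, by simp⟩
  · have he2 : p / 2 = e := by omega
    rw [ZMod.euler_criterion p hk0, he2]
    exact hz

end Cfsg.Agent.Lib.Helper93.BrRBFUS
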