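import Cfsg.Agent.S5615
import Cfsg.Agent.Lib.Helper93.OrbCard
import Cfsg.Agent.Lib.Helper93.NForm

/-!
# The centraliser of an involution of `M24` with 8 fixed points, as a group of matrices

The involution `zp` fixes the points of the standard octad.  The code words that do not meet the
octad form a space of dimension 5 with basis `B 0, ..., B 4`; the stabiliser of the octad acts on
it, and `mat g` is the matrix of `g`.  The matrix of `zp` is the transvection `1 + E₀₁`, the map
`mat` is injective on the stabiliser of the octad, and the centraliser of `zp` has index at most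
15 in the stabiliser of the octad, so its order is at least 21504.
-/
set_option autoImplicit false
open scoped Pointwise
open Cfsg

namespace Cfsg.Agent.Lib.Helper93.Cent2A

open Cfsg.Agent.Lib.Helper27.Bits Cfsg.Agent.Lib.Helper27.Golay Cfsg.Agent.Lib.Helper27.M24
  Cfsg.Agent.Lib.Helper27.Cert Cfsg.Agent.Lib.Helper27.Trans Cfsg.Agent.Lib.Helper27.Fast
  Cfsg.Agent.Lib.Helper27.Oct Cfsg.Agent.Lib.Helper93.Rigid Cfsg.Agent.Lib.Helper93.NForm
  Cfsg.Agent.S5615

/-- the table of the involution -/
def zt : ℕ := tget GF 120 1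

/-- the involution -/
noncomputable def zp : Equiv.Perm GolayPt := gperm zt

/-- the masks of five code words that do not meet the standard octad -/
def B : ℕ → ℕ
  | 0 => 16771936
  | 1 => 1009728
  | 2 => 1852256
  | 3 => 2220640
  | _ => 4645632

/-- the masks of the probes: the parity of a word on `P i` is its coordinate at `B i` -/
def P : ℕ → ℕ
  | 0 => 8388608
  | 1 => 96
  | 2 => 2097184
  | 3 => 1048608
  | _ => 544

/-! ### words -/

/-- the action of a permutation on words -/
def act (g : Equiv.Perm GolayPt) : (GolayPt → ZMod 2) →ₗ[ZMod 2] (GolayPt → ZMod 2) :=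
  LinearMap.funLeft (ZMod 2) (ZMod 2) g.symm

theorem act_apply (g : Equiv.Perm GolayPt) (f : GolayPt → ZMod 2) (p : GolayPt) :
    act g f p = f (g.symm p) := rfl

theorem act_mul (g h : Equiv.Perm GolayPt) (f : GolayPt → ZMod 2) :
    act (g * h) f = act g (act h f) := rfl

theorem support_act (g : Equiv.Perm GolayPt) (f : GolayPt → ZMod 2) :
    support₂ (act g f) = g • support₂ f := by
  ext p
  rw [← Finset.inv_smul_mem_iff]
  simp only [support₂, Finset.mem_filter, Finset.mem_univ, true_and]
  rfl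

theorem act_wordOf {g : Equiv.Perm GolayPt} {m n : ℕ} (h : g • fsOf m = fsOf n) :
    act g (wordOf m) = wordOf n := by
  apply support₂_injective
  rw [support_act, support_wordOf, support_wordOf, h]

/-- the sum of the entries of a word at the points of a mask -/
def phi (m : ℕ) : (GolayPt → ZMod 2) →ₗ[ZMod 2] ZMod 2 :=
  ∑ p ∈ fsOf m, LinearMap.proj p

theorem phi_apply (m : ℕ) (f : GolayPt → ZMod 2) : phi m f = ∑ p ∈ fsOf m, f p := by
  simp [phi, LinearMap.sum_apply]

theorem phi_wordOf (m n : ℕ) : phi m (wordOf n) = ((pcF (n &&& m) : ℕ) : ZMod 2) := by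
  rw [phi_apply, ← card_setOf_F, setOf_and]
  unfold wordOf
  rw [Finset.sum_boole]
  congr 2
  ext p
  simp only [Finset.mem_filter, Finset.mem_inter, mem_setOf]
  tauto

theorem natCast_par (n : ℕ) : ((n : ℕ) : ZMod 2) = ((n % 2 : ℕ) : ZMod 2) :=
  (ZMod.natCast_mod n 2).symm

theorem wordOf_par_mul (x m : ℕ) : wordOf ((x % 2) * m) = ((x : ℕ) : ZMod 2) • wordOf m := by
  rw [natCast_par]
  rcases Nat.mod_two_eq_zero_or_one x with h | h
  · rw [h, zero_mul, wordOf_zero, Nat.cast_zero, zero_smul]
  · rw [h, one_mul, Nat.cast_one, one_smul]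

/-! ### the matrices -/

/-- the matrix of a permutation on the five basis words -/
def mat (g : Equiv.Perm GolayPt) : Matrix (Fin 5) (Fin 5) (ZMod 2) :=
  Matrix.of fun i j => phi (P i) (act g (wordOf (B j)))

theorem mat_apply (g : Equiv.Perm GolayPt) (i j : Fin 5) :
    mat g i j = phi (P i) (act g (wordOf (B j))) := rfl

/-- the combination of the basis masks with the parities of a mask on the probes -/
noncomputable def comb (w : ℕ) : ℕ :=
  (pcF (w &&& P 0) % 2) * B 0 ^^^ (pcF (w &&& P 1) % 2) * B 1 ^^^ (pcF (w &&& P 2) % 2) * B 2 ^^^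
    (pcF (w &&& P 3) % 2) * B 3 ^^^ (pcF (w &&& P 4) % 2) * B 4

theorem d1 : allB 4096 (fun d => !(Nat.beq (pcF (cw d &&& m0)) 0) ||
    Nat.beq (cw d) (comb (cw d))) = true := by decide +kernel

theorem bcode : allB 5 (fun j => Nat.beq (B j) (cw (B j % 4096)) &&
    Nat.beq (B j &&& m0) 0) = true := by decide +kernel

theorem key {g : Equiv.Perm GolayPt} (hg : g ∈ M24) (ho : g • fsOf m0 = fsOf m0) (j : Fin 5) :
    act g (wordOf (B j)) = ∑ k : Fin 5, mat g k j • wordOf (B k) := by
  have hb := (allB_iff _ _).mp bcode j j.isLt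
  simp only [Bool.and_eq_true] at hb
  have h1 : fsOf (B j) ∈ supports (golayCode : Set (GolayPt → ZMod 2)) :=
    (mem_supports_cw _).mpr ⟨B j % 4096, Nat.mod_lt _ (by norm_num),
      congrArg fsOf (Nat.eq_of_beq_eq_true hb.1)⟩
  obtain ⟨d, hd, e⟩ := (mem_supports_cw _).mp ((supports_smul_iff hg _).mpr h1)
  have h2 : act g (wordOf (B j)) = wordOf (cw d) := act_wordOf e
  have h3 : pcF (cw d &&& m0) = 0 := by
    rw [← card_setOf_F, setOf_and, ← e, card_inter_Fx (g := g) ho, ← setOf_and,
      Nat.eq_of_beq_eq_true hb.2, setOf_zero, Finset.card_empty]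
  have h4 : cw d = comb (cw d) := by
    have := (allB_iff _ _).mp d1 d hd
    rw [h3] at this
    simp only [Nat.beq_refl, Bool.not_true, Bool.false_or] at this
    exact Nat.eq_of_beq_eq_true this
  have hm : ∀ k : Fin 5, mat g k j = ((pcF (cw d &&& P k) : ℕ) : ZMod 2) := by
    intro k
    rw [mat_apply, h2, phi_wordOf]
  rw [Fin.sum_univ_five, hm 0, hm 1, hm 2, hm 3, hm 4, h2]
  conv_lhs => rw [h4]
  unfold comb
  rw [wordOf_xor, wordOf_xor, wordOf_xor, wordOf_xor, wordOf_par_mul, wordOf_par_mul,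
    wordOf_par_mul, wordOf_par_mul, wordOf_par_mul]
  rfl

theorem mat_mul (g : Equiv.Perm GolayPt) {h : Equiv.Perm GolayPt} (hh : h ∈ M24)
    (ho : h • fsOf m0 = fsOf m0) : mat (g * h) = mat g * mat h := by
  ext i j
  rw [Matrix.mul_apply, mat_apply, act_mul, key hh ho j, map_sum, map_sum]
  refine Finset.sum_congr rfl fun k _ => ?_
  rw [map_smul, map_smul, smul_eq_mul, mul_comm]
  rfl

theorem d2 : allB 5 (fun i => allB 5 (fun j => Nat.beq (pcF (B j &&& P i) % 2)
    (cond (Nat.beq i j) 1 0))) = true := by decide +kernel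

theorem cond_beq_cast (i j : Fin 5) :
    (((cond (Nat.beq (i : ℕ) (j : ℕ)) 1 0 : ℕ)) : ZMod 2) = (1 : Matrix (Fin 5) (Fin 5) (ZMod 2)) i j := by
  fin_cases i <;> fin_cases j <;> rfl

theorem mat_one : mat 1 = 1 := by
  ext i j
  have e : act 1 (wordOf (B j)) = wordOf (B j) := rfl
  rw [mat_apply, e, phi_wordOf, natCast_par,
    Nat.eq_of_beq_eq_true ((allB_iff _ _).mp ((allB_iff _ _).mp d2 i i.isLt) j j.isLt)]
  exact cond_beq_cast i j

theorem mat_gperm {T : ℕ} (hv : validT T = true) (i j : Fin 5) :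
    mat (gperm T) i j = ((pcF (pull T (B j) &&& P i) : ℕ) : ZMod 2) := by
  rw [mat_apply, act_wordOf (gperm_smul hv (B j)), phi_wordOf]

/-! ### the involution -/

theorem zt_in : inM24 zt = true := (okF_spec 1 (by norm_num)).1

theorem zt_valid : validT zt = true := inM24_valid zt_in

theorem zp_mem : zp ∈ M24 := gperm_mem_M24 zt_in

theorem d3 : allB 5 (fun i => allB 5 (fun j => Nat.beq (pcF (pull zt (B j) &&& P i) % 2)
    (cond (Nat.beq i j || (Nat.beq i 0 && Nat.beq j 1)) 1 0))) = true := by decide +kernel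

theorem cond_transv_cast (i j : Fin 5) :
    (((cond (Nat.beq (i : ℕ) (j : ℕ) || (Nat.beq (i : ℕ) 0 && Nat.beq (j : ℕ) 1)) 1 0 : ℕ)) : ZMod 2) =
      (Matrix.transvection 0 1 1 : Matrix (Fin 5) (Fin 5) (ZMod 2)) i j := by
  fin_cases i <;> fin_cases j <;> rfl

theorem mat_zp : mat zp = Matrix.transvection 0 1 1 := by
  ext i j
  rw [zp, mat_gperm zt_valid, natCast_par,
    Nat.eq_of_beq_eq_true ((allB_iff _ _).mp ((allB_iff _ _).mp d3 i i.isLt) j j.isLt)]
  exact cond_transv_cast i j

theorem d4 : allB 24 (fun j => m0.testBit j || !(Nat.beq (tget zt 5 j) j)) = true := by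
  decide +kernel

/-- the fixed points of the involution are the points of the standard octad -/
theorem zp_fix_iff (p : GolayPt) : zp p = p ↔ p ∈ fsOf m0 := by
  rw [zp, gperm_fix_iff zt_valid, mem_setOf]
  constructor
  · intro h
    have := (allB_iff _ _).mp d4 (idx p) (idx_lt p)
    rw [h] at this
    simpa using this
  · intro h
    exact (okF_spec 1 (by norm_num)).2.1 (idx p) (idx_lt p) h

theorem zp_ne_one : zp ≠ 1 := by
  intro h
  have := (zp_fix_iff (pt 5)).mp (by rw [h]; rfl)
  rw [mem_setOf_pt (by norm_num)] at this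
  exact absurd this (by decide)

theorem gperm_sq_of_invB {C : ℕ} (hv : validT C = true) (h : invB C = true) :
    gperm C * gperm C = 1 := by
  apply inv_injective
  refine Equiv.ext fun p => ?_
  rw [mul_inv_rev]
  show (gperm C)⁻¹ ((gperm C)⁻¹ p) = (1 : Equiv.Perm GolayPt)⁻¹ p
  rw [gperm_inv_apply hv p, gperm_inv_pt hv (validT_lt hv _ (idx_lt p)),
    Nat.eq_of_beq_eq_true ((allB_iff _ _).mp h (idx p) (idx_lt p)), pt_idx, inv_one]
  rfl

theorem d8 : invB zt = true := by decide +kernel

theorem zp_sq : zp * zp = 1 := gperm_sq_of_invB zt_valid d8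

/-- an element commuting with the involution maps the standard octad onto itself -/
theorem smul_m0_of_comm {c : Equiv.Perm GolayPt} (hc : c * zp = zp * c) :
    c • fsOf m0 = fsOf m0 := by
  apply Finset.eq_of_subset_of_card_le
  · intro x hx
    obtain ⟨y, hy, rfl⟩ := Finset.mem_smul_finset.mp hx
    rw [← zp_fix_iff] at hy ⊢
    calc zp (c y) = (zp * c) y := rfl
      _ = (c * zp) y := by rw [hc]
      _ = c (zp y) := rfl
      _ = c y := by rw [hy]
  · rw [Finset.card_smul_finset]

/-! ### the matrix map is injective on the stabiliser of the octad -/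

/-- the points outside the standard octad, then the octad and the full set -/
def LR : List ℕ := [32, 64, 256, 512, 2048, 8192, 16384, 32768, 65536, 131072, 262144, 524288, 1048576, 2097152, 4194304, 8388608, 5279, 16777215]

def SR : List (ℕ × List (ℕ × ℕ)) := [(1, [(16777215, 8), (65536, 1), (131072, 1), (262144, 1), (4194304, 1), (8388608, 1)]),
  (2, [(16777215, 8), (5279, 2), (32768, 1), (65536, 1), (262144, 0), (524288, 1), (2097152, 0), (4194304, 1), (8388608, 0)]),
  (4, [(16777215, 8), (32768, 1), (262144, 1), (1048576, 1), (4194304, 1), (8388608, 1)]),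
  (8, [(16777215, 8), (131072, 1), (262144, 1), (524288, 1), (2097152, 1), (4194304, 1)]),
  (16, [(16777215, 8), (65536, 1), (131072, 1), (524288, 1), (1048576, 1), (8388608, 1)]),
  (128, [(16777215, 8), (32768, 1), (131072, 1), (262144, 1), (524288, 1), (1048576, 1)])]

theorem cR : certR SR LR = true := by decide +kernel

theorem d5 : allB 24 (fun p => allB 24 (fun q => m0.testBit p || Nat.beq p q ||
    ((B 0).testBit q != (B 0).testBit p) || ((B 1).testBit q != (B 1).testBit p) ||
    ((B 2).testBit q != (B 2).testBit p) || ((B 3).testBit q != (B 3).testBit p) ||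
    ((B 4).testBit q != (B 4).testBit p))) = true := by decide +kernel

theorem pt_not_mem {i : ℕ} (hi : i < 24) (h : m0.testBit i = false) : pt i ∉ fsOf m0 := by
  rw [mem_setOf_pt hi, h]
  exact Bool.false_ne_true

theorem eq_one_of_mat {g : Equiv.Perm GolayPt} (hg : g ∈ M24) (ho : g • fsOf m0 = fsOf m0)
    (hm : mat g = 1) : g = 1 := by
  have hB : ∀ j : Fin 5, Fx g (B j) := by
    intro j
    have h := key hg ho j
    rw [hm] at h
    have h2 : act g (wordOf (B j)) = wordOf (B j) := by
      rw [h, Finset.sum_eq_single j]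
      · rw [Matrix.one_apply_eq, one_smul]
      · intro k _ hk
        rw [Matrix.one_apply_ne hk, zero_smul]
      · intro hj
        exact absurd (Finset.mem_univ j) hj
    unfold Fx
    rw [← support_wordOf, ← support_act, h2]
  have hpt : ∀ x : GolayPt, x ∉ fsOf m0 → g x = x := by
    intro x hx
    have h := (allB_iff _ _).mp ((allB_iff _ _).mp d5 (idx x) (idx_lt x)) (idx (g x)) (idx_lt _)
    have hb : m0.testBit (idx x) = false := by
      cases hb : m0.testBit (idx x)
      · rfl
      · exact absurd ((mem_setOf _ _).mpr hb) hx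
    have e : ∀ j : Fin 5, (B j).testBit (idx (g x)) = (B j).testBit (idx x) := by
      intro j
      have := Fx_mem_iff (hB j) x
      rw [mem_setOf, mem_setOf] at this
      exact Bool.eq_iff_iff.mpr this
    have e0 : (B 0).testBit (idx (g x)) = (B 0).testBit (idx x) := e 0
    have e1 : (B 1).testBit (idx (g x)) = (B 1).testBit (idx x) := e 1
    have e2 : (B 2).testBit (idx (g x)) = (B 2).testBit (idx x) := e 2
    have e3 : (B 3).testBit (idx (g x)) = (B 3).testBit (idx x) := e 3
    have e4 : (B 4).testBit (idx (g x)) = (B 4).testBit (idx x) := e 4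
    rw [hb, e0, e1, e2, e3, e4] at h
    simp only [Bool.false_or, bne_self_eq_false, Bool.or_false] at h
    exact (idx_injective (Nat.eq_of_beq_eq_true h)).symm
  refine rigid hg SR LR ?_ cR
  intro m hm
  simp only [LR, List.mem_cons, List.not_mem_nil, or_false] at hm
  rcases hm with rfl | rfl | rfl | rfl | rfl | rfl | rfl | rfl | rfl | rfl | rfl | rfl | rfl | rfl | rfl | rfl | rfl | rfl
  · exact Fx_pow g (i := 5) (by norm_num) (hpt _ (pt_not_mem (by norm_num) (by decide)))
  · exact Fx_pow g (i := 6) (by norm_num) (hpt _ (pt_not_mem (by norm_num) (by decide)))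
  · exact Fx_pow g (i := 8) (by norm_num) (hpt _ (pt_not_mem (by norm_num) (by decide)))
  · exact Fx_pow g (i := 9) (by norm_num) (hpt _ (pt_not_mem (by norm_num) (by decide)))
  · exact Fx_pow g (i := 11) (by norm_num) (hpt _ (pt_not_mem (by norm_num) (by decide)))
  · exact Fx_pow g (i := 13) (by norm_num) (hpt _ (pt_not_mem (by norm_num) (by decide)))
  · exact Fx_pow g (i := 14) (by norm_num) (hpt _ (pt_not_mem (by norm_num) (by decide)))
  · exact Fx_pow g (i := 15) (by norm_num) (hpt _ (pt_not_mem (by norm_num) (by decide)))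
  · exact Fx_pow g (i := 16) (by norm_num) (hpt _ (pt_not_mem (by norm_num) (by decide)))
  · exact Fx_pow g (i := 17) (by norm_num) (hpt _ (pt_not_mem (by norm_num) (by decide)))
  · exact Fx_pow g (i := 18) (by norm_num) (hpt _ (pt_not_mem (by norm_num) (by decide)))
  · exact Fx_pow g (i := 19) (by norm_num) (hpt _ (pt_not_mem (by norm_num) (by decide)))
  · exact Fx_pow g (i := 20) (by norm_num) (hpt _ (pt_not_mem (by norm_num) (by decide)))
  · exact Fx_pow g (i := 21) (by norm_num) (hpt _ (pt_not_mem (by norm_num) (by decide)))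
  · exact Fx_pow g (i := 22) (by norm_num) (hpt _ (pt_not_mem (by norm_num) (by decide)))
  · exact Fx_pow g (i := 23) (by norm_num) (hpt _ (pt_not_mem (by norm_num) (by decide)))
  · exact ho
  · exact Fx_full g

/-! ### the order of the centraliser -/

/-- conjugating elements: the lane `k` conjugates the involution to the element `k` of the
pointwise stabiliser of the octad -/
def YT : ℕ := 0x9a17749aaeb40aa6925103e8219d812de4fb26ae6ce22a0cc80416c090ea5d1b7b4910498a3891d3655e0508e1b4e2b755a6a41e4282480a6e253067aa4d7a59f06c9cc2862812e6a01067ba5e8899aea496098ed5640a451c229a20e6d6c67d123592e53ca2a0b040ba50f5ba66ac22768ed4148a45002c8dcaba4a70755ea400d61b521209877ae49a39a62d902baab30c223381844d20b9bae68d64179cad6590a100832ddd54d9108ae607aa54619a709043a4cd6449702a6a7b8df10b9aa608045b933454a6bca21b2a8d1c1e0230e2bdab49ca307b9ac5a928398a418820bdab49ca307b9ac5a928398a418820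

theorem d6 : allB 16 (fun k => Nat.beq k 0 ||
    (inM24 (tget YT 120 k) && conjB (tget YT 120 k) zt (tget GF 120 k))) = true := by
  decide +kernel

theorem d7 : idB (tget GF 120 0) = true := by decide +kernel

theorem conj_cases {h : Equiv.Perm GolayPt} (hh : h ∈ M24) (ho : h • fsOf m0 = fsOf m0) :
    ∃ k : Fin 16, (k : ℕ) ≠ 0 ∧ h * zp * h⁻¹ = gperm (tget GF 120 k) := by
  have hw : h * zp * h⁻¹ ∈ M24 := M24.mul_mem (M24.mul_mem hh zp_mem) (M24.inv_mem hh)
  have hfix : ∀ p ∈ fsOf m0, (h * zp * h⁻¹) p = p := by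
    intro p hp
    have h1 : h⁻¹ p ∈ fsOf m0 := by
      have hp' : p ∈ h • fsOf m0 := by rw [ho]; exact hp
      exact Finset.inv_smul_mem_iff.mpr hp'
    show h (zp (h⁻¹ p)) = p
    rw [(zp_fix_iff _).mpr h1]
    exact Equiv.apply_symm_apply h p
  obtain ⟨k, hk, e⟩ := exists_f hw hfix
  refine ⟨⟨k, hk⟩, ?_, e⟩
  intro hk0
  have hk0' : k = 0 := hk0
  subst hk0'
  rw [gperm_eq_one_of_idB (inM24_valid (okF_spec 0 (by norm_num)).1) d7] at e
  apply zp_ne_one
  have e2 : zp = h⁻¹ * (h * zp * h⁻¹) * h := by group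
  rw [e2, e]
  group

theorem yk_spec (k : Fin 16) (hk : (k : ℕ) ≠ 0) : gperm (tget YT 120 k) ∈ M24 ∧
    gperm (tget YT 120 k) * zp * (gperm (tget YT 120 k))⁻¹ = gperm (tget GF 120 k) := by
  have h := (allB_iff _ _).mp d6 k k.isLt
  have hb : Nat.beq (k : ℕ) 0 = false := by
    cases hb : Nat.beq (k : ℕ) 0
    · rfl
    · exact absurd (Nat.eq_of_beq_eq_true hb) hk
  rw [hb] at h
  simp only [Bool.false_or, Bool.and_eq_true] at h
  exact ⟨gperm_mem_M24 h.1,
    conj_of_conjB (inM24_valid h.1) zt_valid (inM24_valid (okF_spec k k.isLt).1) h.2⟩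

/-- the involution as an element of the group -/
noncomputable def zM : ↥M24 := ⟨zp, zp_mem⟩

theorem orderOf_zM : orderOf zM = 2 := by
  apply orderOf_eq_prime
  · rw [pow_two]
    exact Subtype.ext zp_sq
  · intro h
    exact zp_ne_one (congrArg Subtype.val h)

theorem m0_octad : fsOf m0 ∈ octads :=
  (mem_octads_cw _).mpr ⟨m0 % 4096, Nat.mod_lt _ (by norm_num), by
    have : m0 = cw (m0 % 4096) := by decide +kernel
    exact congrArg fsOf this, by decide +kernel⟩

/-- the centraliser of the involution has order at least 21504 -/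
theorem card_le : 322560 ≤ 15 * Nat.card ↥(Subgroup.centralizer ({zM} : Set ↥M24)) := by
  classical
  rw [← Cfsg.Agent.Lib.Helper93.OrbCard.card_stab_octad m0_octad]
  have hex : ∀ h : ↥(MulAction.stabilizer ↥M24 (fsOf m0)), ∃ k : Fin 16, (k : ℕ) ≠ 0 ∧
      (h.1.1 : Equiv.Perm GolayPt) * zp * (h.1.1)⁻¹ = gperm (tget GF 120 k) := fun h =>
    conj_cases h.1.2 h.2
  choose kf hk0 hke using hex
  have hym : ∀ h : ↥(MulAction.stabilizer ↥M24 (fsOf m0)),
      (gperm (tget YT 120 (kf h)))⁻¹ * (h.1.1 : Equiv.Perm GolayPt) ∈ M24 := fun h =>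
    M24.mul_mem (M24.inv_mem (yk_spec _ (hk0 h)).1) h.1.2
  have hcm : ∀ h : ↥(MulAction.stabilizer ↥M24 (fsOf m0)),
      (⟨_, hym h⟩ : ↥M24) ∈ Subgroup.centralizer ({zM} : Set ↥M24) := by
    intro h
    rw [Subgroup.mem_centralizer_singleton_iff]
    apply Subtype.ext
    show (gperm (tget YT 120 (kf h)))⁻¹ * (h.1.1 : Equiv.Perm GolayPt) * zp =
      zp * ((gperm (tget YT 120 (kf h)))⁻¹ * (h.1.1 : Equiv.Perm GolayPt))
    have e1 := hke h
    have e2 := (yk_spec _ (hk0 h)).2
    have e3 : (h.1.1 : Equiv.Perm GolayPt) * zp = gperm (tget GF 120 (kf h)) * h.1.1 := by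
      rw [← e1]; group
    have e4 : (gperm (tget YT 120 (kf h)))⁻¹ * gperm (tget GF 120 (kf h)) =
        zp * (gperm (tget YT 120 (kf h)))⁻¹ := by
      rw [← e2]; group
    rw [mul_assoc, e3, ← mul_assoc, e4, mul_assoc]
  let f : ↥(MulAction.stabilizer ↥M24 (fsOf m0)) →
      {k : Fin 16 // (k : ℕ) ≠ 0} × ↥(Subgroup.centralizer ({zM} : Set ↥M24)) :=
    fun h => (⟨kf h, hk0 h⟩, ⟨_, hcm h⟩)
  have hf : Function.Injective f := by
    intro a b hab
    simp only [f, Prod.mk.injEq, Subtype.mk.injEq] at hab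
    obtain ⟨h1, h2⟩ := hab
    rw [h1] at h2
    exact Subtype.ext (Subtype.ext (mul_left_cancel h2))
  have hc := Nat.card_le_card_of_injective f hf
  rw [Nat.card_prod] at hc
  have h15 : Nat.card {k : Fin 16 // (k : ℕ) ≠ 0} = 15 := by
    rw [Nat.card_eq_fintype_card]
    decide
  rw [h15] at hc
  exact hc

/-! ### the homomorphism -/

theorem cent_smul (c : ↥(Subgroup.centralizer ({zM} : Set ↥M24))) :
    (c.1.1 : Equiv.Perm GolayPt) • fsOf m0 = fsOf m0 := by
  apply smul_m0_of_comm
  exact congrArg Subtype.val (Subgroup.mem_centralizer_singleton_iff.mp c.2)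

theorem det_mat {g : Equiv.Perm GolayPt} (hg : g ∈ M24) (ho : g • fsOf m0 = fsOf m0) :
    (mat g).det = 1 := by
  have hi : g⁻¹ ∈ M24 := M24.inv_mem hg
  have hoi : g⁻¹ • fsOf m0 = fsOf m0 := by rw [inv_smul_eq_iff, ho]
  have h := mat_mul g hi hoi
  rw [mul_inv_cancel, mat_one] at h
  have hd : (mat g).det * (mat g⁻¹).det = 1 := by rw [← Matrix.det_mul, ← h, Matrix.det_one]
  have h2 : ∀ a b : ZMod 2, a * b = 1 → a = 1 := by decide
  exact h2 _ _ hd

/-- the centraliser of the involution acts on the five basis words by matrices of determinant 1 -/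
noncomputable def rho : ↥(Subgroup.centralizer ({zM} : Set ↥M24)) →*
    Matrix.SpecialLinearGroup (Fin 5) (ZMod 2) where
  toFun c := ⟨mat c.1.1, det_mat c.1.2 (cent_smul c)⟩
  map_one' := Subtype.ext mat_one
  map_mul' c d := Subtype.ext (mat_mul c.1.1 d.1.2 (cent_smul d))

theorem rho_coe (c : ↥(Subgroup.centralizer ({zM} : Set ↥M24))) :
    ((rho c : Matrix.SpecialLinearGroup (Fin 5) (ZMod 2)) : Matrix (Fin 5) (Fin 5) (ZMod 2)) =
      mat c.1.1 := rfl

theorem rho_injective : Function.Injective rho := by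
  rw [injective_iff_map_eq_one]
  intro c hc
  have h1 : mat c.1.1 = 1 := congrArg Subtype.val hc
  exact Subtype.ext (Subtype.ext (eq_one_of_mat c.1.2 (cent_smul c) h1))

/-- the involution as an element of its centraliser -/
noncomputable def zC : ↥(Subgroup.centralizer ({zM} : Set ↥M24)) :=
  ⟨zM, Subgroup.mem_centralizer_singleton_iff.mpr rfl⟩

theorem rho_zC : ((rho zC : Matrix.SpecialLinearGroup (Fin 5) (ZMod 2)) :
    Matrix (Fin 5) (Fin 5) (ZMod 2)) = Matrix.transvection 0 1 1 := mat_zp

theorem zC_comm (c : ↥(Subgroup.centralizer ({zM} : Set ↥M24))) : c * zC = zC * c :=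
  Subtype.ext (Subgroup.mem_centralizer_singleton_iff.mp c.2)

end Cfsg.Agent.Lib.Helper93.Cent2A
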