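import Mathlib
import Cfsg.Agent.Lib.Helper93.TSSPININV

/-!
# Generic SPININV (helper93): any separable quadratic form `Qf` on `κ → F`, `q ≡ 1 (mod 4)`:
the `-1`-eigenspace of an involution of `Omega(Qf)` is of plus type (contains a totally singular
subspace of half its finrank).  Hypotheses: the `-1`-eigenspace is nondegenerate (`NDsub`),
orthogonal to the fixed space, and of even finrank.  Feed `Qf := NegPairs.plusQ d F` /
`NegPairs.minusQ m F a b` / `NegPairs.oddQ d F`.
-/

set_option autoImplicit false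

namespace Cfsg.Agent.Lib.Helper93.GenSPININV

open Module QuadraticMap
open Cfsg.Agent.Lib.Helper44.QSpace Cfsg.Agent.Lib.Helper44.OGroup
open Cfsg.Agent.Lib.Helper44.CartanD Cfsg.Agent.Lib.Helper44.ReflProd
open Cfsg.Agent.Lib.Helper44.QClass Cfsg.Agent.Lib.Helper44.QBasis
open Cfsg.Agent.Lib.Helper44.SpinCount
open Cfsg.Agent.Lib.Helper44.NegPairs Cfsg.Agent.Lib.Helper44.OMat
open Cfsg.Agent.Lib.Helper44.WittND Cfsg.Agent.Lib.Helper44.WittND2

universe u

theorem gen {F : Type u} [Field F] [Fintype F] {κ : Type} [Fintype κ] [DecidableEq κ]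
    (Qf : QuadraticForm F (κ → F)) (hSQ : Sep Qf) (hn : 2 ≤ Fintype.card κ)
    (hodd : Odd (Fintype.card F)) (h4 : Fintype.card F % 4 = 1)
    (x : Matrix.GeneralLinearGroup κ F) (hx : x ∈ Cfsg.Geo.omegaGL (⇑Qf)) (hx2 : x ^ 2 = 1)
    (hndM : NDsub Qf (LinearMap.ker (Matrix.toLin' (x : Matrix κ κ F) + LinearMap.id)))
    (horth : ∀ u ∈ LinearMap.ker (Matrix.toLin' (x : Matrix κ κ F) - LinearMap.id),
      ∀ v ∈ LinearMap.ker (Matrix.toLin' (x : Matrix κ κ F) + LinearMap.id), polar Qf u v = 0)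
    (hpar : Even (finrank F ↥(LinearMap.ker (Matrix.toLin' (x : Matrix κ κ F) + LinearMap.id)))) :
    ∃ U : Submodule F (κ → F),
      U ≤ LinearMap.ker (Matrix.toLin' (x : Matrix κ κ F) + LinearMap.id) ∧
      (∀ w ∈ U, Qf w = 0) ∧
      2 * finrank F ↥U
        = finrank F ↥(LinearMap.ker (Matrix.toLin' (x : Matrix κ κ F) + LinearMap.id)) := by
  have h2 : (2 : F) ≠ 0 := Cfsg.Agent.Lib.Helper44.FinSq.two_ne_zero_of_odd_card hodd
  obtain ⟨g, hgΩ, hgx⟩ := (Cfsg.Agent.Lib.Helper44.Der3.mem_omegaGL_iff Qf x).mp hx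
  obtain ⟨FX, hFX⟩ : ∃ FX : Submodule F (κ → F),
      FX = LinearMap.ker (Matrix.toLin' (x : Matrix κ κ F) - LinearMap.id) := ⟨_, rfl⟩
  obtain ⟨FM, hFM⟩ : ∃ FM : Submodule F (κ → F),
      FM = LinearMap.ker (Matrix.toLin' (x : Matrix κ κ F) + LinearMap.id) := ⟨_, rfl⟩
  have mem_FX : ∀ v : κ → F, v ∈ FX ↔ (x : Matrix κ κ F).mulVec v = v := by
    intro v
    rw [hFX, LinearMap.mem_ker, LinearMap.sub_apply, Matrix.toLin'_apply, LinearMap.id_apply,
      sub_eq_zero]
  have mem_FM : ∀ v : κ → F, v ∈ FM ↔ (x : Matrix κ κ F).mulVec v = -v := by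
    intro v
    rw [hFM, LinearMap.mem_ker, LinearMap.add_apply, Matrix.toLin'_apply, LinearMap.id_apply,
      add_eq_zero_iff_eq_neg]
  rw [← hFX] at horth
  rw [← hFM] at horth hndM hpar ⊢
  have hS : Sep (res Qf FM) := sep_res_of_ndsub hndM
  obtain ⟨k, hk⟩ := hpar
  rcases Nat.eq_zero_or_pos k with hk0 | hkpos
  · refine ⟨⊥, bot_le, ?_, ?_⟩
    · intro w hw
      rw [Submodule.mem_bot] at hw
      rw [hw]
      exact map_zero Qf
    · rw [finrank_bot, hk, hk0]
  · obtain ⟨m, rfl⟩ : ∃ m, k = m + 1 := ⟨k - 1, by omega⟩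
    have hfin : finrank F FM = 2 * (m + 1) := by rw [hk]; ring
    rcases exists_hyp_even m FM (res Qf FM) hfin hS with
      ⟨e, f, hH⟩ | ⟨e, f, x', y', ζ, hH, hE, horth'⟩
    · obtain ⟨h1, h2', h3, h4', h5⟩ := hH
      have hHV : IsHyp Qf (fun j => (e j : κ → F)) (fun j => (f j : κ → F)) :=
        ⟨fun j => h1 j, fun j => h2' j,
          fun j l => (polar_res Qf _ (e j) (f l)).symm.trans (h3 j l),
          fun j l => (polar_res Qf _ (e j) (e l)).symm.trans (h4' j l),
          fun j l => (polar_res Qf _ (f j) (f l)).symm.trans (h5 j l)⟩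
      have hli0 := linearIndependent_hyp hHV (Fin.elim0 : Fin 0 → (κ → F))
        linearIndependent_empty_type (fun i t => t.elim0) (fun i t => t.elim0)
      have hli : LinearIndependent F (fun j => (e j : κ → F)) :=
        hli0.comp (fun j => Sum.inl (Sum.inl j)) (fun a b hab => by simpa using hab)
      refine ⟨Submodule.span F (Set.range (fun j => (e j : κ → F))), ?_, ?_, ?_⟩
      · rw [Submodule.span_le]
        rintro _ ⟨j, rfl⟩
        exact (e j).2
      · intro w hw
        obtain ⟨c, rfl⟩ := (Submodule.mem_span_range_iff_exists_fun F).mp hw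
        have h6 := q_hyp_sum hHV c (fun _ => 0) Finset.univ
        simp only [zero_smul, add_zero, mul_zero, Finset.sum_const_zero] at h6
        exact h6
      · rw [finrank_span_eq_card hli, Fintype.card_fin, hfin]
    · exfalso
      obtain ⟨vs, hQ, hvM, hev, hprod, hneg⟩ :=
        Cfsg.Agent.Lib.Helper93.TSSPININV.ell_prod h2 Qf FM hfin hH hE horth'
      have hfix : ∀ v ∈ FX, (vs.map (reflE Qf)).prod v = v := by
        intro v hv
        apply prod_reflE_fix
        intro w hw
        exact horth v hv w (hvM w hw)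
      have hxx : ∀ v : κ → F, (x : Matrix κ κ F).mulVec
          ((x : Matrix κ κ F).mulVec v) = v := by
        intro v
        rw [Matrix.mulVec_mulVec]
        have h7 : (x : Matrix κ κ F) * (x : Matrix κ κ F) = 1 := by
          have h8 := congrArg (fun g : Matrix.GeneralLinearGroup κ F =>
            (g : Matrix κ κ F)) hx2
          simpa [pow_two] using h8
        rw [h7, Matrix.one_mulVec]
      have hg : ∀ v, ((g : Matrix.GeneralLinearGroup κ F) : Matrix κ κ F).mulVec v
          = (vs.map (reflE Qf)).prod v := by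
        intro v
        rw [hgx]
        obtain ⟨a, ha_def⟩ : ∃ a : κ → F,
            a = (2⁻¹ : F) • (v + (x : Matrix κ κ F).mulVec v) := ⟨_, rfl⟩
        obtain ⟨c, hc_def⟩ : ∃ c : κ → F,
            c = (2⁻¹ : F) • (v - (x : Matrix κ κ F).mulVec v) := ⟨_, rfl⟩
        have ha : a ∈ FX := by
          rw [mem_FX, ha_def, Matrix.mulVec_smul, Matrix.mulVec_add, hxx, add_comm]
        have hc : c ∈ FM := by
          rw [mem_FM, hc_def, Matrix.mulVec_smul, Matrix.mulVec_sub, hxx, ← smul_neg, neg_sub]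
        have hv : v = a + c := by
          rw [ha_def, hc_def, ← smul_add, add_add_sub_cancel, ← two_smul F, smul_smul,
            inv_mul_cancel₀ h2, one_smul]
        have hxa : (x : Matrix κ κ F).mulVec a = a := (mem_FX _).mp ha
        have hxc : (x : Matrix κ κ F).mulVec c = -c := (mem_FM _).mp hc
        have e1 : (x : Matrix κ κ F).mulVec v = a - c := by
          have h9 : (x : Matrix κ κ F).mulVec v
              = (x : Matrix κ κ F).mulVec (a + c) := by rw [← hv]
          rw [h9, Matrix.mulVec_add, hxa, hxc, sub_eq_add_neg]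
        have e2 : (vs.map (reflE Qf)).prod v = a - c := by
          have h9 : (vs.map (reflE Qf)).prod v
              = (vs.map (reflE Qf)).prod (a + c) := by rw [← hv]
          rw [h9, map_add, hfix a ha, hneg c hc, sub_eq_add_neg]
        rw [e1, e2]
      have hcrit := (mem_omega_iff_of_mulVec h2 Qf hSQ hn g vs hQ hg).mp hgΩ
      obtain ⟨-, s, hs⟩ := hcrit
      rw [hprod] at hs
      obtain ⟨i, hi⟩ := (FiniteField.isSquare_neg_one_iff (F := F)).mpr (by omega)
      have hAA : ((-1 : F) ^ m) * ((-1 : F) ^ m) = 1 := by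
        rw [← mul_pow]; simp
      have hA : (i ^ m) * (i ^ m) = (-1 : F) ^ m := by
        rw [← mul_pow, ← hi]
      have hr : ζ - 2⁻¹ * 2⁻¹ = (i ^ m * s) * (i ^ m * s) := by
        calc ζ - 2⁻¹ * 2⁻¹ = ((-1 : F) ^ m) * ((-1 : F) ^ m) * (ζ - 2⁻¹ * 2⁻¹) := by
              rw [hAA, one_mul]
          _ = ((-1 : F) ^ m) * (s * s) := by rw [mul_assoc, hs]
          _ = (i ^ m * s) * (i ^ m * s) := by rw [← hA]; ring
      have hh : (2 : F) * 2⁻¹ = 1 := mul_inv_cancel₀ h2
      apply hE.2.2.2 (i * (i ^ m * s) - 2⁻¹)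
      linear_combination ((i ^ m * s) * (i ^ m * s)) * hi.symm
        + (2⁻¹ - i * (i ^ m * s)) * hh + hr

end Cfsg.Agent.Lib.Helper93.GenSPININV
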