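import Cfsg.Agent.Lib.Helper93.Gl2Special
import Cfsg.Agent.Lib.Helper66.KleinCount

/-!
# `gl2_special` (piece S3055/K2 for helper10), exact signature

`Gl2Special.gl2_special_of_klein` with helper66's Klein class equation lemma plugged in.
-/

set_option autoImplicit false

namespace Cfsg.Agent.Lib.Helper93.Gl2SpecialK

open Matrix

theorem gl2_special (p : ℕ) [Fact p.Prime] (hp : 11 ≤ p)
    (H : Subgroup (GL (Fin 2) (ZMod p))) (hH : ∀ h ∈ H, ¬ p ∣ orderOf h)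
    (t : (ZMod p)ˣ) (ht : orderOf t = p - 1)
    (hspec : ∀ v : Fin 2 → ZMod p, v ≠ 0 → ∃ h ∈ H,
      (h : Matrix (Fin 2) (Fin 2) (ZMod p)).mulVec v = ((t⁻¹ : (ZMod p)ˣ) : ZMod p) • v ∧
      Matrix.det (h : Matrix (Fin 2) (Fin 2) (ZMod p)) = (t : ZMod p)) : False :=
  Cfsg.Agent.Lib.Helper93.Gl2Special.gl2_special_of_klein
    (fun _ _ _ m hm hCA hN2 S hSconj hSord s₁ s₂ s₃ s₄ h₁ h₂ h₃ h₄ h12 h13 h14 h23 h24 h34 =>
      Cfsg.Agent.Lib.Helper66.KleinCount.klein_count m hm hCA hN2 S hSconj hSord s₁ s₂ s₃ s₄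
        h₁ h₂ h₃ h₄ h12 h13 h14 h23 h24 h34)
    p hp H hH t ht hspec

end Cfsg.Agent.Lib.Helper93.Gl2SpecialK
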