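import Mathlib
import Cfsg.Agent.Lib.Helper68.M11UStmt
import Cfsg.Agent.Lib.Helper93.MUINVCOSET
import Cfsg.Agent.S0434

set_option autoImplicit false

/-! Piece STAB of S0420 (for helper68): the centralizer of `t` in the normalizer of a Sylow
3-subgroup `P` inverted by `t` has order 16: `N(P) = P ⋊ C_{N(P)}(t)`. -/

namespace Cfsg.Agent.Lib.Helper93.MUSTAB

open Cfsg Cfsg.Agent.Lib.Helper68.M11UStmt Cfsg.Agent.Lib.Helper92.M11Stmt

universe u

theorem main : InvCoset.{u} → StabT.{u} := by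
  intro hIC G _ _ _ hG P t ht hinv
  have hN : Nat.card (Subgroup.normalizer ((P : Subgroup G) : Set G)) = 144 :=
    Cfsg.Agent.S0434.result ⟨inferInstance, hG⟩ P
  have hP9 := Cfsg.Agent.Lib.Helper93.MUINVCOSET.card_syl3 hG P
  have hPN : (P : Subgroup G) ≤ Subgroup.normalizer ((P : Subgroup G) : Set G) :=
    Subgroup.le_normalizer
  have ht2 : t * t = 1 := by
    have h := pow_orderOf_eq_one t
    rw [ht, sq] at h; exact h
  have htinv : t⁻¹ = t := inv_eq_of_mul_eq_one_left ht2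
  -- `P ∩ C(t) = 1`
  have htriv : ∀ y ∈ (P : Subgroup G), t * y = y * t → y = 1 := by
    intro y hy hc
    have h1 := hinv y hy
    have h2 : y⁻¹ = y := by
      rw [← h1, hc]; group
    have h3 : y ^ 2 = 1 := by
      rw [sq]
      calc y * y = y⁻¹ * y := by rw [h2]
        _ = 1 := by group
    have h4 : orderOf y ∣ 2 := orderOf_dvd_of_pow_eq_one h3
    have h5 : orderOf y ∣ 9 := by
      rw [← hP9]; exact Subgroup.orderOf_dvd_natCard _ hy
    have h6 : orderOf y ∣ Nat.gcd 2 9 := Nat.dvd_gcd h4 h5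
    have h7 : orderOf y = 1 := by
      have h8 : Nat.gcd 2 9 = 1 := by norm_num
      rw [h8] at h6
      exact Nat.dvd_one.1 h6
    exact orderOf_eq_one_iff.1 h7
  have key : Nat.card (Subgroup.normalizer ((P : Subgroup G) : Set G)) =
      Nat.card (P : Subgroup G) * Nat.card (Subgroup.centralizer ({t} : Set G) ⊓
        Subgroup.normalizer ((P : Subgroup G) : Set G) : Subgroup G) := by
    rw [← Nat.card_prod]
    symm
    apply Nat.card_congr
    refine Equiv.ofBijective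
      (fun pc : ↥(P : Subgroup G) × ↥(Subgroup.centralizer ({t} : Set G) ⊓
          Subgroup.normalizer ((P : Subgroup G) : Set G) : Subgroup G) =>
        (⟨(pc.1 : G) * (pc.2 : G), Subgroup.mul_mem _ (hPN pc.1.2) pc.2.2.2⟩ :
          ↥(Subgroup.normalizer ((P : Subgroup G) : Set G)))) ⟨?_, ?_⟩
    · rintro ⟨⟨x, hx⟩, ⟨c, hc⟩⟩ ⟨⟨x', hx'⟩, ⟨c', hc'⟩⟩ h
      have h1 : x * c = x' * c' := congrArg Subtype.val h
      have h2 : x'⁻¹ * x = c' * c⁻¹ := by
        calc x'⁻¹ * x = x'⁻¹ * (x * c) * c⁻¹ := by group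
          _ = x'⁻¹ * (x' * c') * c⁻¹ := by rw [h1]
          _ = c' * c⁻¹ := by group
      have h3 : x'⁻¹ * x ∈ (P : Subgroup G) :=
        Subgroup.mul_mem _ (Subgroup.inv_mem _ hx') hx
      have h4 : x'⁻¹ * x ∈ Subgroup.centralizer ({t} : Set G) := by
        rw [h2]; exact Subgroup.mul_mem _ hc'.1 (Subgroup.inv_mem _ hc.1)
      have h4' : t * (x'⁻¹ * x) = x'⁻¹ * x * t :=
        (Subgroup.mem_centralizer_iff.1 h4) t rfl
      have h5 : x'⁻¹ * x = 1 := htriv _ h3 h4'
      have hxx : x' = x := inv_mul_eq_one.1 h5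
      subst hxx
      have hcc : c = c' := mul_left_cancel h1
      subst hcc
      rfl
    · rintro ⟨n, hn⟩
      have hn' : ∀ y, y ∈ (P : Subgroup G) → n⁻¹ * y * n ∈ (P : Subgroup G) := by
        intro y hy
        have h1 := (Subgroup.mem_normalizer_iff.1 (Subgroup.inv_mem _ hn) y).1 hy
        rwa [inv_inv] at h1
      have h1 : orderOf (n * t * n⁻¹) = 2 ∧ Inverts (n * t * n⁻¹) (P : Subgroup G) := by
        have hsq : (n * t * n⁻¹) ^ 2 = 1 := by
          rw [conj_pow, sq, ht2]; group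
        have hne : n * t * n⁻¹ ≠ 1 := by
          intro h
          have h' : t = 1 := by
            calc t = n⁻¹ * (n * t * n⁻¹) * n := by group
              _ = 1 := by rw [h]; group
          rw [h', orderOf_one] at ht
          omega
        refine ⟨orderOf_eq_prime hsq hne, ?_⟩
        intro y hy
        have h2 := hinv _ (hn' y hy)
        calc n * t * n⁻¹ * y * (n * t * n⁻¹)⁻¹ = n * (t * (n⁻¹ * y * n) * t⁻¹) * n⁻¹ := by group
          _ = n * (n⁻¹ * y * n)⁻¹ * n⁻¹ := by rw [h2]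
          _ = y⁻¹ := by group
      obtain ⟨x', hx', hx'eq⟩ := (hIC G hG P t ht hinv _).1 h1
      have h9 : x' ^ 9 = 1 := by
        have h5 : orderOf x' ∣ 9 := by
          rw [← hP9]; exact Subgroup.orderOf_dvd_natCard _ hx'
        exact orderOf_dvd_iff_pow_eq_one.1 h5
      have hx4 : x' ^ 4 ∈ (P : Subgroup G) := Subgroup.pow_mem _ hx' 4
      -- `x t x⁻¹ = t x'` for `x = x' ^ 4`
      have hconj : x' ^ 4 * t * (x' ^ 4)⁻¹ = t * x' := by
        have h2 := hinv _ hx4
        have h3 : x' ^ 4 * t = t * (x' ^ 4)⁻¹ := by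
          have h4 : t * x' ^ 4 = (x' ^ 4)⁻¹ * t := by rw [← h2]; group
          calc x' ^ 4 * t = (t * t) * (x' ^ 4 * t) := by rw [ht2, one_mul]
            _ = t * (t * x' ^ 4) * t := by group
            _ = t * ((x' ^ 4)⁻¹ * t) * t := by rw [h4]
            _ = t * (x' ^ 4)⁻¹ * (t * t) := by group
            _ = t * (x' ^ 4)⁻¹ := by rw [ht2, mul_one]
        have e : x' * (x' ^ 4 * x' ^ 4) = 1 := by
          rw [← pow_add, ← pow_succ']; exact h9
        have e' : (x' ^ 4)⁻¹ * (x' ^ 4)⁻¹ = x' := by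
          rw [← mul_inv_rev]; exact (eq_inv_of_mul_eq_one_left e).symm
        rw [h3, mul_assoc, e']
      have hcN : (x' ^ 4)⁻¹ * n ∈ Subgroup.normalizer ((P : Subgroup G) : Set G) :=
        Subgroup.mul_mem _ (Subgroup.inv_mem _ (hPN hx4)) hn
      have hcC : (x' ^ 4)⁻¹ * n ∈ Subgroup.centralizer ({t} : Set G) := by
        rw [Subgroup.mem_centralizer_iff]
        intro h hh
        rw [Set.mem_singleton_iff] at hh
        rw [hh]
        have h6 : n * t = t * x' * n := by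
          rw [← hx'eq]; group
        have h7 : (x' ^ 4)⁻¹ * t * x' = t * (x' ^ 4)⁻¹ := by
          calc (x' ^ 4)⁻¹ * t * x' = (x' ^ 4)⁻¹ * (t * x') := by group
            _ = (x' ^ 4)⁻¹ * (x' ^ 4 * t * (x' ^ 4)⁻¹) := by rw [hconj]
            _ = t * (x' ^ 4)⁻¹ := by group
        calc t * ((x' ^ 4)⁻¹ * n) = (t * (x' ^ 4)⁻¹) * n := by group
          _ = (x' ^ 4)⁻¹ * t * x' * n := by rw [h7]
          _ = (x' ^ 4)⁻¹ * (t * x' * n) := by group
          _ = (x' ^ 4)⁻¹ * (n * t) := by rw [h6]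
          _ = (x' ^ 4)⁻¹ * n * t := by group
      refine ⟨⟨⟨x' ^ 4, hx4⟩, ⟨(x' ^ 4)⁻¹ * n, ⟨hcC, hcN⟩⟩⟩, ?_⟩
      apply Subtype.ext
      show x' ^ 4 * ((x' ^ 4)⁻¹ * n) = n
      group
  rw [hN, hP9] at key
  omega

end Cfsg.Agent.Lib.Helper93.MUSTAB
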