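import Cfsg.Agent.Lib.CT.MajFus

/-!
# Counting major subsections (helper93; piece S4715/C for helper79)

`card_center_le`: for a maximal Brauer pair `(P, c)` of `B`, the order of the centre of `P` is at
most `[N_G(P, c) : P C_G(P)]` times the number of pairs `(x, β)`, `x` a class representative of
`p`-elements and `β` a block of `C_G(x)` inducing `B` with the defect of `B`.
-/

set_option autoImplicit false

namespace Cfsg.Agent.Lib.Helper93.MajCount

open Cfsg Cfsg.Agent.Lib.Helper77.BPCyc Cfsg.Agent.Lib.CT.MajFus Cfsg.Agent.Lib.CT.Wedderburn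

universe u

theorem card_center_le {G : Type u} [Group G] [Finite G] {M : Ideal AlgInt} {p : ℕ} [Fact p.Prime]
    (hM : IsPModular p M) {B : Set (IrrCharacter G)} {P : Subgroup G}
    {c : Set (IrrCharacter (Subgroup.centralizer (P : Set G)))}
    (hmax : IsMaximalBrauerPair p M B P c) (X : Finset G)
    (hX : ∀ x ∈ X, ∃ k : ℕ, orderOf x = p ^ k)
    (hXrep : ∀ g : G, (∃ k : ℕ, orderOf g = p ^ k) → ∃! x, x ∈ X ∧ IsConj g x) :
    Nat.card (Subgroup.center P) ≤
      (P ⊔ Subgroup.centralizer (P : Set G)).relIndex (Cfsg.Agent.Lib.Helper77.BPFix.stab P c) *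
        ∑ x ∈ X, Set.ncard {β : Set (IrrCharacter (Subgroup.centralizer ({x} : Set G))) |
          IsInducedBlock M (Subgroup.centralizer ({x} : Set G)) β B ∧
            blockDefect p β = blockDefect p B} := by
  classical
  have : Fintype G := Fintype.ofFinite G
  have hPp : IsPGroup p P := hmax.1.1.1
  obtain ⟨Zfin, hZfin⟩ : ∃ Zfin : Finset G, ∀ u, u ∈ Zfin ↔ (u ∈ P ∧ ∀ v ∈ P, u * v = v * u) :=
    ⟨Finset.univ.filter (fun u => u ∈ P ∧ ∀ v ∈ P, u * v = v * u), fun u => by simp⟩
  -- the centre of `P` embeds in `Zfin`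
  have hcardZ : Nat.card (Subgroup.center P) ≤ Zfin.card := by
    have hmemZ : ∀ z : Subgroup.center P, ((z : P) : G) ∈ Zfin := by
      intro z
      refine (hZfin _).mpr ⟨(z : P).2, fun v hv => ?_⟩
      have h := Subgroup.mem_center_iff.mp z.2 ⟨v, hv⟩
      exact (congrArg Subtype.val h).symm
    have hinj : Function.Injective
        (fun z : Subgroup.center P => (⟨((z : P) : G), hmemZ z⟩ : Zfin)) := by
      intro z z' h
      have h' : (⟨((z : P) : G), hmemZ z⟩ : Zfin) = ⟨((z' : P) : G), hmemZ z'⟩ := h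
      have h1 : ((z : P) : G) = ((z' : P) : G) := Subtype.mk.inj h'
      exact Subtype.ext (Subtype.ext h1)
    have h2 := Nat.card_le_card_of_injective _ hinj
    have h3 : Nat.card ↥Zfin = Zfin.card := by
      rw [Nat.card_eq_fintype_card, Fintype.card_coe]
    rwa [h3] at h2
  -- representatives
  have hex : ∀ u : G, ∃ x : G, u ∈ Zfin → (x ∈ X ∧ IsConj u x) := by
    intro u
    by_cases hu : u ∈ Zfin
    · have huP := ((hZfin u).mp hu).1
      obtain ⟨k, hk⟩ := (IsPGroup.iff_orderOf.mp hPp) ⟨u, huP⟩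
      obtain ⟨x, hx, -⟩ := hXrep u ⟨k, by rw [← hk, Subgroup.orderOf_mk]⟩
      exact ⟨x, fun _ => hx⟩
    · exact ⟨1, fun h => absurd h hu⟩
  choose r hr using hex
  have hfib : Zfin.card = ∑ x ∈ X, (Zfin.filter (fun u => r u = x)).card :=
    Finset.card_eq_sum_card_fiberwise (fun u hu => (hr u hu).1)
  -- the bound for one representative
  have hbound : ∀ x ∈ X, (Zfin.filter (fun u => r u = x)).card ≤
      (P ⊔ Subgroup.centralizer (P : Set G)).relIndex (Cfsg.Agent.Lib.Helper77.BPFix.stab P c) *
        Set.ncard {β : Set (IrrCharacter (Subgroup.centralizer ({x} : Set G))) |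
          IsInducedBlock M (Subgroup.centralizer ({x} : Set G)) β B ∧
            blockDefect p β = blockDefect p B} := by
    intro x _
    have := finite_irrCharacter (Subgroup.centralizer ({x} : Set G))
    have : Finite (Set (IrrCharacter (Subgroup.centralizer ({x} : Set G)))) := inferInstance
    obtain ⟨s, hs⟩ : ∃ s : Finset G, s = Zfin.filter (fun u => r u = x) := ⟨_, rfl⟩
    have hmem : ∀ u, u ∈ s ↔ u ∈ Zfin ∧ r u = x := by
      intro u
      rw [hs, Finset.mem_filter]
    rw [← hs]
    have hexb : ∀ u : G, ∃ b : Set (IrrCharacter (Subgroup.centralizer ({x} : Set G))),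
        u ∈ s → IsInducedBlock M (Subgroup.centralizer ({x} : Set G)) b B ∧
          IsSubsectionBlock p M P c x u b := by
      intro u
      by_cases hu : u ∈ s
      · have hu' := (hmem u).mp hu
        have hux : IsConj u x := by
          have h1 := (hr u hu'.1).2
          rwa [hu'.2] at h1
        obtain ⟨b, hb1, hb2⟩ := exists_subsectionBlock hM hmax ((hZfin u).mp hu'.1).1 hux
        exact ⟨b, fun _ => ⟨hb1, hb2⟩⟩
      · exact ⟨∅, fun h => absurd h hu⟩
    choose Φ hΦ using hexb
    have h1 : s.card ≤ (P ⊔ Subgroup.centralizer (P : Set G)).relIndex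
        (Cfsg.Agent.Lib.Helper77.BPFix.stab P c) * (s.image Φ).card := by
      apply Finset.card_le_mul_card_image
      intro a ha
      obtain ⟨u₀, hu₀, rfl⟩ := Finset.mem_image.mp ha
      have hu₀Z := (hZfin u₀).mp ((hmem u₀).mp hu₀).1
      refine le_trans ?_
        (orbit_ncard_le P (Cfsg.Agent.Lib.Helper77.BPFix.stab P c) u₀ hu₀Z.1 hu₀Z.2)
      rw [← Set.ncard_coe_finset]
      apply Set.ncard_le_ncard _ (Set.toFinite _)
      intro u hu
      rw [Finset.mem_coe, Finset.mem_filter] at hu
      have huZ := (hZfin u).mp ((hmem u).mp hu.1).1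
      have h' := (hΦ u hu.1).2
      rw [hu.2] at h'
      obtain ⟨y, hy, hys, hyu⟩ := subsection_fusion hM hmax hu₀Z.2 huZ.2 (hΦ u₀ hu₀).2 h'
      exact ⟨y, Cfsg.Agent.Lib.Helper77.BPFix.mem_stab.mpr ⟨hy, hys⟩, hyu⟩
    have h2 : (s.image Φ).card ≤
        Set.ncard {β : Set (IrrCharacter (Subgroup.centralizer ({x} : Set G))) |
          IsInducedBlock M (Subgroup.centralizer ({x} : Set G)) β B ∧
            blockDefect p β = blockDefect p B} := by
      rw [← Set.ncard_coe_finset]
      apply Set.ncard_le_ncard _ (Set.toFinite _)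
      intro b hb
      rw [Finset.mem_coe] at hb
      obtain ⟨u, hu, rfl⟩ := Finset.mem_image.mp hb
      have huZ := (hZfin u).mp ((hmem u).mp hu).1
      exact ⟨(hΦ u hu).1, subsection_defect hM hmax huZ.2 (hΦ u hu).2⟩
    exact h1.trans (Nat.mul_le_mul_left _ h2)
  calc Nat.card (Subgroup.center P) ≤ Zfin.card := hcardZ
    _ = ∑ x ∈ X, (Zfin.filter (fun u => r u = x)).card := hfib
    _ ≤ ∑ x ∈ X, (P ⊔ Subgroup.centralizer (P : Set G)).relIndex
          (Cfsg.Agent.Lib.Helper77.BPFix.stab P c) *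
          Set.ncard {β : Set (IrrCharacter (Subgroup.centralizer ({x} : Set G))) |
            IsInducedBlock M (Subgroup.centralizer ({x} : Set G)) β B ∧
              blockDefect p β = blockDefect p B} := Finset.sum_le_sum hbound
    _ = _ := (Finset.mul_sum _ _ _).symm

end Cfsg.Agent.Lib.Helper93.MajCount
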