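import Mathlib
import Cfsg.Agent.Lib.Helper15.NpcStmt

set_option autoImplicit false

/-! Piece PPOWA of S3875 (for helper15): in a minimal non-`p`-closed group of order `p |N|`
with `N` a normal `p'`-subgroup, every Sylow subgroup of `N` different from `N` is
centralized by an element of order `p` (Frattini argument + `p`-closure of a proper
subgroup). -/

namespace Cfsg.Agent.Lib.Helper93.NpcPPOWA

open Cfsg.Agent.Lib.Helper15.NpcStmt

/-- In a `p`-closed subgroup `K`, an element `y` of order `p` commutes with every `x ∈ K` whose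
commutator with `y` lies in a `p'`-subgroup `M`. -/
theorem comm_of_pclosed {p : ℕ} [Fact p.Prime] {H : Type} [Group H] [Finite H]
    (K : Subgroup H) (hK : Cfsg.IsPClosed p ↥K) (M : Subgroup H) (hM : ¬ p ∣ Nat.card M)
    (y x : H) (hy : y ∈ K) (hx : x ∈ K) (hyo : orderOf y = p)
    (hc : y * x * y⁻¹ * x⁻¹ ∈ M) : y * x = x * y := by
  classical
  set yK : ↥K := ⟨y, hy⟩ with hyK
  set xK : ↥K := ⟨x, hx⟩ with hxK
  have hzp : IsPGroup p ↥(Subgroup.zpowers yK) := by
    apply IsPGroup.of_card (n := 1)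
    rw [Nat.card_zpowers, pow_one, ← Subgroup.orderOf_coe]
    exact hyo
  obtain ⟨Q, hQ⟩ := hzp.exists_le_sylow
  have hQn : (Q : Subgroup ↥K).Normal := hK Q
  have hyQ : yK ∈ (Q : Subgroup ↥K) := hQ (Subgroup.mem_zpowers yK)
  have hcQ : yK * xK * yK⁻¹ * xK⁻¹ ∈ (Q : Subgroup ↥K) := by
    have h1 : xK * yK⁻¹ * xK⁻¹ ∈ (Q : Subgroup ↥K) := hQn.conj_mem _ (inv_mem hyQ) xK
    have h2 := mul_mem hyQ h1
    have e : yK * xK * yK⁻¹ * xK⁻¹ = yK * (xK * yK⁻¹ * xK⁻¹) := by group
    rw [e]; exact h2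
  obtain ⟨k, hk⟩ := Q.isPGroup' ⟨_, hcQ⟩
  have hk' : (y * x * y⁻¹ * x⁻¹) ^ p ^ k = 1 := by
    have := congrArg (fun z : ↥(Q : Subgroup ↥K) => ((z : ↥K) : H)) hk
    simpa [hyK, hxK] using this
  have h1 : orderOf (y * x * y⁻¹ * x⁻¹) ∣ p ^ k := orderOf_dvd_of_pow_eq_one hk'
  have h2 : orderOf (y * x * y⁻¹ * x⁻¹) ∣ Nat.card M := Subgroup.orderOf_dvd_natCard M hc
  have hcop : Nat.Coprime (p ^ k) (Nat.card M) :=
    Nat.Coprime.pow_left _ ((Nat.Prime.coprime_iff_not_dvd Fact.out).2 hM)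
  have h3 : orderOf (y * x * y⁻¹ * x⁻¹) = 1 :=
    Nat.Coprime.eq_one_of_dvd (Nat.Coprime.coprime_dvd_left h1 hcop) h2
  have h4 : y * x * y⁻¹ * x⁻¹ = 1 := orderOf_eq_one_iff.1 h3
  calc y * x = (y * x * y⁻¹ * x⁻¹) * (x * y) := by group
    _ = x * y := by rw [h4, one_mul]

theorem main : CentSylow := by
  intro p _ H _ _ hmin N hN hpN hcard r _ R hR
  classical
  have := hN
  have hfr : Subgroup.normalizer (((R : Subgroup ↥N).map N.subtype : Subgroup H) : Set H) ⊔ N = ⊤ :=
    Sylow.normalizer_sup_eq_top R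
  set R' : Subgroup H := (R : Subgroup ↥N).map N.subtype with hR'
  have hR'N : R' ≤ N := by
    rw [hR']; exact Subgroup.map_subtype_le _
  have hNpos : 0 < Nat.card N := Nat.card_pos
  have hp : p.Prime := Fact.out
  have hidx : N.index = p := by
    have h := Subgroup.card_mul_index N
    rw [hcard] at h
    have h' : Nat.card N * N.index = Nat.card N * p := by rw [h, mul_comm]
    exact Nat.eq_of_mul_eq_mul_left hNpos h'
  have hrel : N.relIndex (Subgroup.normalizer (R' : Set H)) = p := by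
    rw [← Subgroup.relIndex_sup_right, hfr, Subgroup.relIndex_top_right, hidx]
  have hdvd : p ∣ Nat.card (Subgroup.normalizer (R' : Set H)) := by
    rw [← hrel]; exact Subgroup.relIndex_dvd_card _ _
  obtain ⟨y0, hy0⟩ := exists_prime_orderOf_dvd_card' p hdvd
  have hyo : orderOf (y0 : H) = p := by rw [Subgroup.orderOf_coe]; exact hy0
  refine ⟨(y0 : H), hyo, ?_⟩
  set y : H := (y0 : H) with hy
  have hyn : y ∈ Subgroup.normalizer (R' : Set H) := y0.2
  set K : Subgroup H := Subgroup.zpowers y ⊔ R' with hK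
  have hyK : y ∈ K := (le_sup_left : Subgroup.zpowers y ≤ K) (Subgroup.mem_zpowers y)
  have hRK : R' ≤ K := le_sup_right
  have hKtop : K ≠ ⊤ := by
    intro hKt
    have hle : K ≤ Subgroup.normalizer (R' : Set H) := by
      rw [hK]
      refine sup_le ?_ Subgroup.le_normalizer
      rw [Subgroup.zpowers_le]; exact hyn
    have hnt : Subgroup.normalizer (R' : Set H) = ⊤ := by
      rw [hKt] at hle; exact top_le_iff.1 hle
    have hRn : R'.Normal := Subgroup.normalizer_eq_top_iff.1 hnt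
    have hri : R'.index ∣ p := by
      rw [← Subgroup.relIndex_top_right, ← hKt, hK, Subgroup.relIndex_sup_right]
      have h := Subgroup.relIndex_dvd_card R' (Subgroup.zpowers y)
      rwa [Nat.card_zpowers, hyo] at h
    have hci := Subgroup.card_mul_index R'
    rw [hcard] at hci
    have hRle : Nat.card R' ≤ Nat.card N := Nat.le_of_dvd hNpos (Subgroup.card_dvd_of_le hR'N)
    rcases (Nat.dvd_prime hp).1 hri with h1 | h1
    · rw [h1, mul_one] at hci
      have hp2 : 2 ≤ p := hp.two_le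
      have h2 : 2 * Nat.card N ≤ p * Nat.card N := Nat.mul_le_mul_right _ hp2
      omega
    · rw [h1] at hci
      have h3 : Nat.card R' = Nat.card N := by
        have h4 : p * Nat.card R' = p * Nat.card N := by rw [← hci, mul_comm]
        exact Nat.eq_of_mul_eq_mul_left hp.pos h4
      exact hR (Subgroup.eq_of_le_of_card_ge hR'N h3.ge)
  have hKc : Cfsg.IsPClosed p ↥K := hmin.2.1 K hKtop
  intro x hx
  apply comm_of_pclosed K hKc N hpN y x hyK (hRK hx) hyo
  apply hR'N
  have h1 : y * x * y⁻¹ ∈ R' := (Subgroup.mem_normalizer_iff.1 hyn x).1 hx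
  exact mul_mem h1 (inv_mem hx)

end Cfsg.Agent.Lib.Helper93.NpcPPOWA
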