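import Mathlib
import Cfsg.Agent.Lib.Helper15.NpcStmt
import Cfsg.Agent.Lib.Helper93.NpcPPOWA

set_option autoImplicit false

/-! Piece SYLP of S3875 (for helper15): a minimal non-`p`-closed group with a proper non-trivial
normal subgroup has Sylow `p`-subgroups of order `p`. -/

namespace Cfsg.Agent.Lib.Helper93.NpcSYLP

open Cfsg.Agent.Lib.Helper15.NpcStmt

theorem main : NormalPPrime → SupTop → CardSplit → SylowPrime := by
  intro hNPP hSup hCard p _ H _ _ hmin N hN hNbot hNtop P
  classical
  have := hN
  have hpN : ¬ p ∣ Nat.card N := hNPP p H hmin N hN hNtop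
  have hsup : (P : Subgroup H) ⊔ N = ⊤ := hSup p H hmin N hN hNbot P
  have hcard : Nat.card H = Nat.card (P : Subgroup H) * Nat.card N :=
    hCard p H N hN hpN P hsup
  have hNpos : 0 < Nat.card N := Nat.card_pos
  have hp : p.Prime := Fact.out
  obtain ⟨n, hn⟩ := IsPGroup.iff_card.1 P.isPGroup'
  have hn0 : n ≠ 0 := by
    rintro rfl
    rw [pow_zero] at hn
    have hb : (P : Subgroup H) = ⊥ := Subgroup.card_eq_one.1 hn
    rw [hb, bot_sup_eq] at hsup
    exact hNtop hsup
  by_contra hne
  have hn1 : n ≠ 1 := by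
    rintro rfl
    rw [pow_one] at hn
    exact hne hn
  have hlt : p < Nat.card (P : Subgroup H) := by
    rw [hn]
    calc p = p ^ 1 := (pow_one p).symm
      _ < p ^ n := Nat.pow_lt_pow_right hp.one_lt (by omega)
  have hdvdP : p ∣ Nat.card (P : Subgroup H) := by
    rw [hn]; exact dvd_pow_self p hn0
  obtain ⟨x0, hx0⟩ := exists_prime_orderOf_dvd_card' p hdvdP
  set x : H := ((x0 : ↥(P : Subgroup H)) : H) with hx
  have hxo : orderOf x = p := by rw [hx, Subgroup.orderOf_coe]; exact hx0
  set K : Subgroup H := Subgroup.zpowers x ⊔ N with hK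
  have hxK : x ∈ K := (le_sup_left : Subgroup.zpowers x ≤ K) (Subgroup.mem_zpowers x)
  have hNK : N ≤ K := le_sup_right
  have hKtop : K ≠ ⊤ := by
    intro hKt
    have hri : N.index ∣ p := by
      rw [← Subgroup.relIndex_top_right, ← hKt, hK, Subgroup.relIndex_sup_right]
      have h := Subgroup.relIndex_dvd_card N (Subgroup.zpowers x)
      rwa [Nat.card_zpowers, hxo] at h
    have hci := Subgroup.card_mul_index N
    rw [hcard] at hci
    have hidx : N.index = Nat.card (P : Subgroup H) := by
      have h' : Nat.card N * N.index = Nat.card N * Nat.card (P : Subgroup H) := by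
        rw [hci, mul_comm]
      exact Nat.eq_of_mul_eq_mul_left hNpos h'
    have h2 := Nat.le_of_dvd hp.pos hri
    omega
  have hKc : Cfsg.IsPClosed p ↥K := hmin.2.1 K hKtop
  have hxC : x ∈ Subgroup.centralizer (N : Set H) := by
    rw [Subgroup.mem_centralizer_iff]
    intro m hm
    have h := Cfsg.Agent.Lib.Helper93.NpcPPOWA.comm_of_pclosed K hKc N hpN x m hxK (hNK hm) hxo (by
      have h1 : x * m * x⁻¹ ∈ N := hN.conj_mem m hm x
      exact mul_mem h1 (inv_mem hm))
    exact h.symm
  have hCn : (Subgroup.centralizer (N : Set H)).Normal := Subgroup.normal_centralizer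
  have hCtop : Subgroup.centralizer (N : Set H) = ⊤ := by
    by_contra hC
    apply hNPP p H hmin _ hCn hC
    rw [← hxo]
    exact Subgroup.orderOf_dvd_natCard _ hxC
  have hnorm : Subgroup.normalizer ((P : Subgroup H) : Set H) = ⊤ := by
    rw [← top_le_iff, ← hsup]
    refine sup_le Subgroup.le_normalizer ?_
    intro m hm
    rw [Subgroup.mem_normalizer_iff]
    intro h
    have hh : h ∈ Subgroup.centralizer (N : Set H) := by rw [hCtop]; trivial
    have hc := (Subgroup.mem_centralizer_iff.1 hh) m hm
    have e : m * h * m⁻¹ = h := by rw [hc, mul_inv_cancel_right]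
    rw [e]
  have hPn : (P : Subgroup H).Normal := Subgroup.normalizer_eq_top_iff.1 hnorm
  apply hmin.1
  intro Q
  obtain ⟨g, hg⟩ := MulAction.exists_smul_eq H P Q
  rw [← hg, Sylow.smul_eq_of_normal]
  exact hPn

end Cfsg.Agent.Lib.Helper93.NpcSYLP
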