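import Mathlib
import Cfsg.Agent.Lib.Helper18.ReeOutStmt

set_option autoImplicit false

/-! S2127 piece AUTK: ring endomorphisms of the field with `3^(2m+1)` elements are powers of
the Frobenius. -/

namespace Cfsg.Agent.Lib.Helper93.ReeOutAUTK

universe v

open Cfsg.Agent.Lib.Helper18.ReeOutStmt

theorem main : AUTK.{v} := by
  intro K _ _ m hcard σ
  have : Fact (Nat.Prime 3) := ⟨Nat.prime_three⟩
  have : CharP K 3 := charP_of_card_eq_prime_pow hcard
  let _ : Algebra (ZMod 3) K := ZMod.algebra K 3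
  let σ' : K →ₐ[ZMod 3] K :=
    { σ with
      commutes' := fun a => by
        have h : σ.comp (algebraMap (ZMod 3) K) = algebraMap (ZMod 3) K := Subsingleton.elim _ _
        exact RingHom.congr_fun h a }
  obtain ⟨⟨i, hi⟩, hσ⟩ := (FiniteField.bijective_frobeniusAlgHom_pow (ZMod 3) K).2 σ'
  have hfin : Module.finrank (ZMod 3) K = 2 * m + 1 := by
    have h := Module.card_eq_pow_finrank (K := ZMod 3) (V := K)
    rw [ZMod.card, hcard] at h
    exact (Nat.pow_right_injective (by norm_num : 2 ≤ 3) h).symm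
  refine ⟨i, by rw [← hfin]; exact hi, fun t => ?_⟩
  have h1 := DFunLike.congr_fun hσ t
  simp only [AlgHom.coe_pow, FiniteField.coe_frobeniusAlgHom, pow_iterate, ZMod.card] at h1
  exact h1.symm

end Cfsg.Agent.Lib.Helper93.ReeOutAUTK
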