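import Mathlib
import Cfsg.Agent.Lib.Helper18.ReeOutStmt

set_option autoImplicit false

/-! S2127 piece REG: TI Sylow subgroups, at most `|P| + 1` of them (at least two): `P` is
transitive on the others and there are exactly `|P| + 1`. -/

namespace Cfsg.Agent.Lib.Helper93.ReeOutREG

universe u

open Cfsg.Agent.Lib.Helper18.ReeOutStmt

theorem main : REG.{u} := by
  intro G _ _ p _ P hTI hex hle
  classical
  have key : ∀ Q : Sylow p G, Q ≠ P →
      ∃ F : ↥(P : Subgroup G) → {Q' : Sylow p G // Q' ≠ P}, Function.Injective F ∧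
        ∀ u, (F u).1 = (u : G) • Q := by
    intro Q hQ
    have hne : ∀ u : ↥(P : Subgroup G), (u : G) • Q ≠ P := by
      intro u h
      apply hQ
      have h1 : (u : G) • P = P :=
        Sylow.smul_eq_iff_mem_normalizer.mpr (Subgroup.le_normalizer u.2)
      exact smul_left_cancel (u : G) (h.trans h1.symm)
    refine ⟨fun u => ⟨(u : G) • Q, hne u⟩, ?_, fun u => rfl⟩
    intro u u' h
    have h0 : (u : G) • Q = (u' : G) • Q := congrArg Subtype.val h
    have h1 : ((u' : G)⁻¹ * (u : G)) • Q = Q := by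
      rw [mul_smul, h0, inv_smul_smul]
    have h2 := Sylow.smul_eq_iff_mem_normalizer.mp h1
    have h3 : (u' : G)⁻¹ * (u : G) ∈ (P : Subgroup G) := mul_mem (inv_mem u'.2) u.2
    have h4 := IsPGroup.inf_normalizer_sylow P.isPGroup' Q
    have h5 : (u' : G)⁻¹ * (u : G) ∈ (P : Subgroup G) ⊓ (Q : Subgroup G) := by
      rw [← h4]
      exact ⟨h3, h2⟩
    rw [hTI P Q (Ne.symm hQ), Subgroup.mem_bot] at h5
    apply Subtype.ext
    exact (inv_mul_eq_one.mp h5).symm
  have hcardX : Nat.card {Q' : Sylow p G // Q' ≠ P} + 1 = Nat.card (Sylow p G) := by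
    rw [← Nat.card_congr (Equiv.optionSubtypeNe P), Finite.card_option]
  obtain ⟨Q0, hQ0⟩ := hex
  obtain ⟨F0, hF0, -⟩ := key Q0 hQ0
  have h1 : Nat.card ↥(P : Subgroup G) ≤ Nat.card {Q' : Sylow p G // Q' ≠ P} :=
    Nat.card_le_card_of_injective F0 hF0
  refine ⟨?_, by omega⟩
  intro Q Q' hQ hQ'
  obtain ⟨F, hF, hFu⟩ := key Q hQ
  have hbij := hF.bijective_of_nat_card_le (by omega)
  obtain ⟨u, hu⟩ := hbij.2 ⟨Q', hQ'⟩
  exact ⟨u, u.2, by rw [← hFu u, hu]⟩

end Cfsg.Agent.Lib.Helper93.ReeOutREG
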