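import Mathlib
import Cfsg.Agent.Lib.Helper18.ReeOutStmt

set_option autoImplicit false

/-! S2127 piece SEMIB: a semi-equivariant additive map is a scalar times a ring endomorphism. -/

namespace Cfsg.Agent.Lib.Helper93.ReeOutSEMIB

universe v

open Cfsg.Agent.Lib.Helper18.ReeOutStmt

lemma chi_inv {K : Type v} [Field K] (φ : K →+* K) (h3 : ∀ t, φ (φ t) ^ 3 = t) {c : K}
    (hc : c ≠ 0) : (c ^ 2 * φ c ^ 3) ^ 2 / φ (c ^ 2 * φ c ^ 3) ^ 3 = c := by
  have hφc : φ c ≠ 0 := (map_ne_zero φ).mpr hc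
  have h1 : φ (c ^ 2 * φ c ^ 3) = φ c ^ 2 * c := by
    rw [map_mul, map_pow, map_pow, h3]
  rw [h1]
  field_simp

theorem main : SEMIB.{v} := by
  intro K _ φ h3 f g hadd hf1 hg hsemi
  have hf0 : f 0 = 0 := by
    have h := hadd 0 0
    rw [add_zero] at h
    linear_combination -h
  have hmul : ∀ c t, f (c * t) = f c / f 1 * f t := by
    intro c t
    by_cases hc : c = 0
    · rw [hc, zero_mul, hf0, zero_div, zero_mul]
    · have hs : c ^ 2 * φ c ^ 3 ≠ 0 :=
        mul_ne_zero (pow_ne_zero 2 hc) (pow_ne_zero 3 ((map_ne_zero φ).mpr hc))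
      have h1 := hsemi (c ^ 2 * φ c ^ 3) t hs
      have h2 := hsemi (c ^ 2 * φ c ^ 3) 1 hs
      rw [chi_inv φ h3 hc] at h1 h2
      rw [mul_one] at h2
      rw [h1, h2, mul_div_assoc, div_self hf1, mul_one]
  let σ : K →+* K :=
    { toFun := fun t => f t / f 1
      map_one' := div_self hf1
      map_mul' := fun a b => by
        show f (a * b) / f 1 = f a / f 1 * (f b / f 1)
        rw [hmul a b]
        ring
      map_zero' := by
        show f 0 / f 1 = 0
        rw [hf0, zero_div]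
      map_add' := fun a b => by
        show f (a + b) / f 1 = f a / f 1 + f b / f 1
        rw [hadd, add_div] }
  refine ⟨f 1 ^ 2 * φ (f 1) ^ 3,
    mul_ne_zero (pow_ne_zero 2 hf1) (pow_ne_zero 3 ((map_ne_zero φ).mpr hf1)), σ, fun t => ?_⟩
  rw [chi_inv φ h3 hf1]
  show f t = f 1 * (f t / f 1)
  field_simp

end Cfsg.Agent.Lib.Helper93.ReeOutSEMIB
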