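import Mathlib
import Cfsg.Agent.Lib.Helper22.S56Stmt
import Cfsg.Agent.Lib.Helper62.S55Stmt
import Cfsg.Agent.Lib.Helper76.PSolv

/-!
# S1356 / DERNIL (helper93, spare assembly for helper22's call): `H'` is nilpotent in the setting
`SetA` / `SetB`, from `SylNormal`, `SylNilp` and the pure pieces `HallD`, `Frat`, `Quot`, `Lift`,
`NilProd`.
-/

set_option autoImplicit false

namespace Cfsg.Agent.Lib.Helper93.S56DERNIL

open Cfsg Cfsg.Agent.Lib.Helper93.S64Stmt Cfsg.Agent.Lib.Helper22.S56Stmt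

universe u

theorem main (hSN : SylNormal.{u}) (hSNilp : Cfsg.Agent.Lib.Helper62.S55Stmt.SylNilp.{u})
    (hHD : HallD.{u}) (hFr : Frat.{u}) (hQ : Quot.{u}) (hL : Lift.{u}) (hNP : NilProd.{u}) :
    DerNil.{u} := by
  intro X _ _ H R _ q hA hB
  obtain ⟨hidx, hC⟩ := hSN H R q hA hB
  obtain ⟨D, hDH, hDO, hHOD, hRD, hDq⟩ := hHD H R q hA hB hidx
  have hqp : q.Prime := hB.qprime
  have hfact : Fact q.Prime := ⟨hqp⟩
  have hOp : IsPGroup q ↥(Oq X H q) :=
    (Cfsg.Agent.Lib.Helper76.PSolv.pCore_isPGroup q).to_le inf_le_left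
  obtain ⟨N, hNn, hNO, hpow, hcomm, hnongen⟩ := hFr (Oq X H q) q hOp
  have hquot := hQ H R D N q hA hB hidx hC hDH hDO hRD hNO hpow hcomm
  have hDD : ⁅D, D⁆ ≤ D := by
    rw [Subgroup.commutator_le]
    intro a ha b hb
    rw [commutatorElement_def]
    exact D.mul_mem (D.mul_mem (D.mul_mem ha hb) (D.inv_mem ha)) (D.inv_mem hb)
  have hDDq : (Nat.card ↥⁅D, D⁆).Coprime q :=
    Nat.Coprime.coprime_dvd_left (Subgroup.card_dvd_of_le hDD) hDq
  have hcent := hL (Oq X H q) N ⁅D, D⁆ q hOp hNO hnongen hDDq hquot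
  exact hNP H (Oq X H q) D q hOp (Oq_le X H q) hDH hDO hHOD (hSNilp H R q hA hB) hcent

end Cfsg.Agent.Lib.Helper93.S56DERNIL
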