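import Mathlib
import Cfsg.Agent.Lib.Helper26.T64Stmt

set_option autoImplicit false

/-! S3157 piece HEIS: a group with Heisenberg coordinates over `F4` is isomorphic to the image
`Ubar 3 F4` of the unitriangular group in `PSL(3, F4)`. -/

namespace Cfsg.Agent.Lib.Helper93.T64HEIS

universe u

open Matrix Cfsg.Agent.H84.PslDefs

section

variable {K : Type} [Field K]

/-- entries of a unitriangular matrix -/
lemma uni_entries (M : SpecialLinearGroup (Fin 3) K) (hM : M ∈ Uni 3 K) :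
    M 0 0 = 1 ∧ M 1 1 = 1 ∧ M 2 2 = 1 ∧ M 1 0 = 0 ∧ M 2 0 = 0 ∧ M 2 1 = 0 := by
  obtain ⟨h1, h2⟩ := (mem_Uni 3 K M).mp hM
  exact ⟨h2 0, h2 1, h2 2, h1 1 0 (by decide), h1 2 0 (by decide), h1 2 1 (by decide)⟩

/-- entries of a product of unitriangular matrices -/
lemma mul_entries (M M' : SpecialLinearGroup (Fin 3) K) (hM : M ∈ Uni 3 K)
    (hM' : M' ∈ Uni 3 K) :
    (M * M') 1 2 = M 1 2 + M' 1 2 ∧ (M * M') 0 1 = M 0 1 + M' 0 1 ∧
    (M * M') 0 2 = M 0 2 + M' 0 2 + M 0 1 * M' 1 2 := by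
  obtain ⟨a1, a2, a3, a4, a5, a6⟩ := uni_entries M hM
  obtain ⟨b1, b2, b3, b4, b5, b6⟩ := uni_entries M' hM'
  refine ⟨?_, ?_, ?_⟩
  · show ((M : Matrix (Fin 3) (Fin 3) K) * (M' : Matrix (Fin 3) (Fin 3) K)) 1 2 = _
    rw [Matrix.mul_apply, Fin.sum_univ_three]
    show M 1 0 * M' 0 2 + M 1 1 * M' 1 2 + M 1 2 * M' 2 2 = _
    rw [a4, a2, b3]; ring
  · show ((M : Matrix (Fin 3) (Fin 3) K) * (M' : Matrix (Fin 3) (Fin 3) K)) 0 1 = _
    rw [Matrix.mul_apply, Fin.sum_univ_three]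
    show M 0 0 * M' 0 1 + M 0 1 * M' 1 1 + M 0 2 * M' 2 1 = _
    rw [a1, b2, b6]; ring
  · show ((M : Matrix (Fin 3) (Fin 3) K) * (M' : Matrix (Fin 3) (Fin 3) K)) 0 2 = _
    rw [Matrix.mul_apply, Fin.sum_univ_three]
    show M 0 0 * M' 0 2 + M 0 1 * M' 1 2 + M 0 2 * M' 2 2 = _
    rw [a1, b3]; ring

variable {T : Type u} [Group T]

lemma heis_mul (α β γ : K → T)
    (hα : ∀ p q : K, α (p + q) = α p * α q) (hβ : ∀ p q : K, β (p + q) = β p * β q)
    (hγ : ∀ p q : K, γ (p + q) = γ p * γ q)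
    (hc : ∀ (c : K) (t : T), γ c * t = t * γ c)
    (hr : ∀ a b : K, β b * α a = α a * β b * γ (a * b)) (a b c a' b' c' : K) :
    α (a + a') * β (b + b') * γ (c + c' + b * a') =
      (α a * β b * γ c) * (α a' * β b' * γ c') := by
  rw [hα, hβ, hγ, hγ]
  have e1 : β b * α a' = α a' * β b * γ (a' * b) := hr a' b
  have e2 : γ c * (α a' * β b' * γ c') = (α a' * β b' * γ c') * γ c := hc c _
  have e3 : γ (a' * b) * (β b' * γ c' * γ c) = (β b' * γ c' * γ c) * γ (a' * b) := hc _ _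
  have e4 : γ c * γ c' = γ c' * γ c := hc c (γ c')
  symm
  calc (α a * β b * γ c) * (α a' * β b' * γ c')
      = α a * β b * (γ c * (α a' * β b' * γ c')) := by simp only [mul_assoc]
    _ = α a * β b * ((α a' * β b' * γ c') * γ c) := by rw [e2]
    _ = α a * (β b * α a') * (β b' * γ c' * γ c) := by simp only [mul_assoc]
    _ = α a * (α a' * β b * γ (a' * b)) * (β b' * γ c' * γ c) := by rw [e1]
    _ = α a * (α a' * β b) * (γ (a' * b) * (β b' * γ c' * γ c)) := by simp only [mul_assoc]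
    _ = α a * (α a' * β b) * ((β b' * γ c' * γ c) * γ (a' * b)) := by rw [e3]
    _ = α a * α a' * (β b * β b') * (γ c' * γ c * γ (a' * b)) := by simp only [mul_assoc]
    _ = α a * α a' * (β b * β b') * (γ c * γ c' * γ (b * a')) := by rw [e4, mul_comm a' b]

/-- the unitriangular matrix with the given entries -/
def mk3 (a b c : K) : SpecialLinearGroup (Fin 3) K :=
  ⟨!![1, b, c; 0, 1, a; 0, 0, 1], by simp [Matrix.det_fin_three]⟩

lemma mk3_mem (a b c : K) : mk3 a b c ∈ Uni 3 K := by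
  rw [mem_Uni]
  constructor
  · intro i j hji
    fin_cases i <;> fin_cases j <;> first | rfl | exact absurd hji (by decide)
  · intro i
    fin_cases i <;> rfl

theorem heis (α β γ : K → T)
    (hα : ∀ p q : K, α (p + q) = α p * α q) (hβ : ∀ p q : K, β (p + q) = β p * β q)
    (hγ : ∀ p q : K, γ (p + q) = γ p * γ q)
    (hc : ∀ (c : K) (t : T), γ c * t = t * γ c)
    (hr : ∀ a b : K, β b * α a = α a * β b * γ (a * b))
    (hbij : Function.Bijective (fun p : K × K × K => α p.1 * β p.2.1 * γ p.2.2)) :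
    Nonempty (T ≃* ↥(Ubar 3 K)) := by
  let Φ : ↥(Uni 3 K) →* T := MonoidHom.mk'
    (fun M => α (M.1 1 2) * β (M.1 0 1) * γ (M.1 0 2))
    (by
      intro M M'
      obtain ⟨m1, m2, m3⟩ := mul_entries M.1 M'.1 M.2 M'.2
      show α ((M.1 * M'.1) 1 2) * β ((M.1 * M'.1) 0 1) * γ ((M.1 * M'.1) 0 2) = _
      rw [m1, m2, m3]
      exact heis_mul α β γ hα hβ hγ hc hr _ _ _ _ _ _)
  have hΦ : ∀ M : ↥(Uni 3 K), Φ M = α (M.1 1 2) * β (M.1 0 1) * γ (M.1 0 2) := fun M => rfl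
  have hinj : Function.Injective Φ := by
    intro M M' h
    rw [hΦ, hΦ] at h
    have h' := hbij.1 (a₁ := (M.1 1 2, M.1 0 1, M.1 0 2))
      (a₂ := (M'.1 1 2, M'.1 0 1, M'.1 0 2)) h
    simp only [Prod.mk.injEq] at h'
    obtain ⟨e1, e2, e3⟩ := h'
    obtain ⟨a1, a2, a3, a4, a5, a6⟩ := uni_entries M.1 M.2
    obtain ⟨b1, b2, b3, b4, b5, b6⟩ := uni_entries M'.1 M'.2
    apply Subtype.ext
    apply Matrix.SpecialLinearGroup.ext
    intro i j
    fin_cases i <;> fin_cases j <;>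
      first
        | exact e1 | exact e2 | exact e3
        | exact a1.trans b1.symm | exact a2.trans b2.symm | exact a3.trans b3.symm
        | exact a4.trans b4.symm | exact a5.trans b5.symm | exact a6.trans b6.symm
  have hsurj : Function.Surjective Φ := by
    intro t
    obtain ⟨⟨a, b, c⟩, h⟩ := hbij.2 t
    exact ⟨⟨mk3 a b c, mk3_mem a b c⟩, h⟩
  have hinj2 : Function.Injective ((proj 3 K).subgroupMap (Uni 3 K)) := by
    rw [injective_iff_map_eq_one]
    intro M hM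
    have h1 : proj 3 K M.1 = 1 := congrArg Subtype.val hM
    have h2 : M.1 ∈ (proj 3 K).ker := h1
    rw [ker_proj, Matrix.SpecialLinearGroup.mem_center_iff] at h2
    obtain ⟨r, -, hr⟩ := h2
    obtain ⟨a1, -⟩ := uni_entries M.1 M.2
    have h5 := congrArg (fun A : Matrix (Fin 3) (Fin 3) K => A 0 0) hr
    simp only [Matrix.scalar_apply, Matrix.diagonal_apply_eq] at h5
    have hr1 : r = 1 := h5.trans a1
    apply Subtype.ext
    apply Subtype.ext
    rw [← hr, hr1]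
    simp
  have e2 : ↥(Uni 3 K) ≃* ↥(Ubar 3 K) :=
    MulEquiv.ofBijective ((proj 3 K).subgroupMap (Uni 3 K))
      ⟨hinj2, (proj 3 K).subgroupMap_surjective (Uni 3 K)⟩
  exact ⟨(MulEquiv.ofBijective Φ ⟨hinj, hsurj⟩).symm.trans e2⟩

end

theorem main : Cfsg.Agent.Lib.Helper26.T64Stmt.HEIS.{u} := by
  intro T _ hT
  obtain ⟨α, β, γ, hα, hβ, hγ, hc, hr, hbij⟩ := hT
  exact heis α β γ hα hβ hγ hc hr hbij

end Cfsg.Agent.Lib.Helper93.T64HEIS
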