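import Mathlib
import Cfsg.Agent.Lib.Helper26.T64Stmt
import Cfsg.Agent.Lib.Helper45.D8
import Cfsg.Agent.Lib.Helper54.Quaternion

set_option autoImplicit false

/-! S3157 piece ORD8: a non-abelian group of order 8 is dihedral or quaternion. -/

namespace Cfsg.Agent.Lib.Helper93.T64ORD8

universe u

open Cfsg.Agent.Lib.Helper45.D8

theorem ord8 (G : Type u) [Group G] [Finite G] (h8 : Nat.card G = 8)
    (hnc : ¬ ∀ a b : G, a * b = b * a) :
    Nonempty (G ≃* DihedralGroup 4) ∨ Nonempty (G ≃* QuaternionGroup 2) := by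
  -- an element of order 4
  obtain ⟨a, ha⟩ : ∃ a : G, orderOf a = 4 := by
    by_contra hno
    push Not at hno
    apply hnc
    apply comm_of_sq_one
    intro a
    have hdvd : orderOf a ∣ 2 ^ 3 := by
      have := orderOf_dvd_natCard a
      rw [h8] at this
      exact this
    obtain ⟨m, hm, hma⟩ := (Nat.dvd_prime_pow Nat.prime_two).mp hdvd
    have hm2 : m ≤ 1 := by
      by_contra hm2
      have hm3 : m = 2 ∨ m = 3 := by omega
      rcases hm3 with rfl | rfl
      · exact hno a hma
      · apply hno (a ^ 2)
        rw [orderOf_pow' a (by norm_num), hma]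
        rfl
    have : orderOf a ∣ 2 := by
      rw [hma]
      interval_cases m
      · norm_num
      · norm_num
    rw [← pow_two]
    exact orderOf_dvd_iff_pow_eq_one.mp this
  have ha4 : a ^ 4 = 1 := by rw [← ha]; exact pow_orderOf_eq_one a
  have ha1 : a ≠ 1 := by
    rintro rfl
    rw [orderOf_one] at ha
    omega
  have ha2 : a ^ 2 ≠ 1 := by
    intro h
    have := orderOf_dvd_of_pow_eq_one h
    rw [ha] at this
    omega
  have hA4 : Nat.card (Subgroup.zpowers a) = 4 := by rw [Nat.card_zpowers, ha]
  have hAidx : (Subgroup.zpowers a).index = 2 := by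
    have := Subgroup.card_mul_index (Subgroup.zpowers a)
    rw [hA4, h8] at this
    omega
  have hAn : (Subgroup.zpowers a).Normal := Subgroup.normal_of_index_eq_two hAidx
  -- an element outside `⟨a⟩`
  obtain ⟨t, htA⟩ : ∃ t : G, t ∉ Subgroup.zpowers a := by
    by_contra hno
    push Not at hno
    have htop : Subgroup.zpowers a = ⊤ := (Subgroup.eq_top_iff' _).mpr hno
    rw [htop, Subgroup.index_top] at hAidx
    omega
  have htiA : t⁻¹ ∉ Subgroup.zpowers a := fun h => htA (by simpa using inv_mem h)
  have hconjA : t * a * t⁻¹ ∈ Subgroup.zpowers a :=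
    hAn.conj_mem a (Subgroup.mem_zpowers a) t
  have hc1 : t * a * t⁻¹ ≠ 1 := by
    intro h
    apply ha1
    have : a = t⁻¹ * (t * a * t⁻¹) * t := by group
    rw [this, h]; group
  have hc2 : (t * a * t⁻¹) ^ 2 ≠ 1 := by
    intro h
    rw [conj_pow] at h
    apply ha2
    have : a ^ 2 = t⁻¹ * (t * a ^ 2 * t⁻¹) * t := by group
    rw [this, h]; group
  rcases mem_zpowers_four ha hconjA with h | h | h | h
  · exact absurd h hc1
  · -- `t` commutes with `a`: the group would be abelian
    exfalso
    apply hnc
    have hta : Commute t a := by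
      have : t * a = a * t := by
        calc t * a = (t * a * t⁻¹) * t := by group
          _ = a * t := by rw [h]
      exact this
    have hall : ∀ g : G, ∃ i : ℕ, g = a ^ i ∨ g = a ^ i * t := by
      intro g
      by_cases hg : g ∈ Subgroup.zpowers a
      · rcases mem_zpowers_four ha hg with h' | h' | h' | h'
        · exact ⟨0, Or.inl (by rw [h', pow_zero])⟩
        · exact ⟨1, Or.inl (by rw [h', pow_one])⟩
        · exact ⟨2, Or.inl h'⟩
        · exact ⟨3, Or.inl h'⟩
      · have hgt : g * t⁻¹ ∈ Subgroup.zpowers a :=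
          (Subgroup.mul_mem_iff_of_index_two hAidx).mpr
            ⟨fun h' => absurd h' hg, fun h' => absurd h' htiA⟩
        have hgeq : g = (g * t⁻¹) * t := by rw [inv_mul_cancel_right]
        rcases mem_zpowers_four ha hgt with h' | h' | h' | h'
        · exact ⟨0, Or.inr (by rw [pow_zero, ← h', ← hgeq])⟩
        · exact ⟨1, Or.inr (by rw [pow_one, ← h', ← hgeq])⟩
        · exact ⟨2, Or.inr (by rw [← h', ← hgeq])⟩
        · exact ⟨3, Or.inr (by rw [← h', ← hgeq])⟩
    intro g g'
    obtain ⟨i, hi⟩ := hall g
    obtain ⟨j, hj⟩ := hall g'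
    have c1 : Commute (a ^ i) (a ^ j) := (Commute.refl a).pow_pow i j
    have c2 : Commute (a ^ i) t := (hta.symm).pow_left i
    have c3 : Commute (a ^ j) t := (hta.symm).pow_left j
    rcases hi with rfl | rfl <;> rcases hj with rfl | rfl
    · exact c1
    · exact (c1.mul_right c2 : Commute (a ^ i) (a ^ j * t))
    · exact ((c1.symm.mul_right c3).symm : Commute (a ^ i * t) (a ^ j))
    · have : Commute (a ^ i * t) (a ^ j * t) :=
        (c1.mul_right c2).mul_left ((c3.symm).mul_right (Commute.refl t))
      exact this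
  · exfalso
    apply hc2
    rw [h, ← pow_mul]
    exact ha4
  · -- `t` inverts `a`
    have hinva : a ^ 3 = a⁻¹ := by
      apply eq_inv_of_mul_eq_one_left
      rw [← pow_succ]
      exact ha4
    have htt : t * t ∈ Subgroup.zpowers a := Subgroup.mul_self_mem_of_index_two hAidx t
    have hne : a ^ 3 ≠ a := by
      intro h3
      apply ha2
      have : a * a ^ 2 = a * 1 := by rw [← pow_succ', mul_one]; exact h3
      exact mul_left_cancel this
    rcases mem_zpowers_four ha htt with h' | h' | h' | h'
    · left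
      exact Cfsg.Agent.S3224.dihedral_iso a t 4 ha (by norm_num) (by rw [h8]) h' htA
        (by rw [h, hinva])
    · exfalso
      apply hne
      rw [← h]
      have : t * (t * t) * t⁻¹ = t * t := by group
      rw [h'] at this
      exact this
    · right
      exact Cfsg.Agent.Lib.Helper54.Quaternion.quaternion_iso a t 2 (by rw [ha]) (by norm_num)
        (by rw [h8]) h' htA (by rw [h, hinva])
    · exfalso
      apply hne
      have e1 : t * (t * t) * t⁻¹ = t * t := by group
      rw [h'] at e1
      have e2 : (t * a * t⁻¹) ^ 3 = t * a ^ 3 * t⁻¹ := conj_pow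
      rw [h, e1, ← pow_mul] at e2
      have e3 : a ^ (3 * 3) = a := by
        calc a ^ (3 * 3) = a ^ 4 * a ^ 4 * a := by rw [← pow_add, ← pow_succ]
          _ = a := by rw [ha4, one_mul, one_mul]
      rw [← e2, e3]

theorem main : Cfsg.Agent.Lib.Helper26.T64Stmt.ORD8.{u} := by
  intro G _ _ h8 hab
  apply ord8 G h8
  obtain ⟨a, b, hab⟩ := hab
  intro h
  exact hab (h a b)

end Cfsg.Agent.Lib.Helper93.T64ORD8
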